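import Mathlib
import Cfsg.Prelude.Def_Characters
import Cfsg.Prelude.Def_Blocks
import Cfsg.Agent.Characters.Core
import Cfsg.Agent.Characters.Clifford
import Cfsg.Agent.Blocks.Over
import Cfsg.Agent.Blocks.PRegular
import Cfsg.Agent.Blocks.Covering
import Cfsg.Agent.H610.Twist
import Cfsg.Agent.H694.Good
import Cfsg.Agent.H661.SporEven
import Cfsg.Agent.H694.DGood
import Cfsg.Agent.Blocks.CentralProduct
import Cfsg.Agent.FastGrp
import Cfsg.Agent.Prune
set_option linter.all false

section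
prune_inst 0x7f00000000000000000000000000000000000000000000000000000000000000000000000000000000000000000000000000000000000000000000000000000000000000000000000000000000000000003fffffffffffffffffffffffffffbeffbdfbfeffff

-- part: H610/EB/Red
section
prune_inst 0x4010000
set_option linter.all false
open scoped Cfsg.Agent.FastGrp

/-!
# Even degree characters of the principal 2-block fixed by the power map: reduction to `S`

`S` is a normal subgroup of `G` with `|G : S|` a power of `2`.

* `IsK G k`: the power map `g ↦ g ^ k` fixes the `2`-elements and inverts the elements of odd order.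
* `Concl M G S k`: the conclusion of S4522.
* `mem_of_over`: a character of `G` over a member of the principal block of `S` is in the principal
  block of `G`.
* `of_inertia`: the conclusion from a generalized character of the inertia group.
* `of_sum`: the conclusion from a generalized character of `G` whose restriction to `S` has an odd
  number of constituents of even degree in the principal block with odd multiplicity.
* `of_parity`: the case where all the constituents of odd multiplicity of `π_S` are in the principal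
  block, and `π(1) + [π_S, π_S]` is odd.
-/

set_option autoImplicit false
set_option linter.unusedSectionVars false
set_option linter.style.haveILetI false

namespace Cfsg.Agent.H610.EB

open Cfsg Cfsg.Agent.Characters Cfsg.Agent.H694
open scoped ComplexConjugate
open Cfsg.Agent.Characters.Core
open Cfsg.Agent.OddOrderCharacters.NormalInduced (conjFn)
open Cfsg.Agent.OddOrderCharacters.PF9.CliffGen (resTo irr_ind)
open Cfsg.Agent.Blocks.Local Cfsg.Agent.Blocks.Basic

universe u v

/-- The power map of S4522. -/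
structure IsK (G : Type*) [Group G] (k : ℕ) : Prop where
  two : ∀ g : G, (∃ j : ℕ, orderOf g = 2 ^ j) → g ^ k = g
  odd : ∀ g : G, Odd (orderOf g) → g ^ k = g⁻¹

theorem IsK.sub {G : Type*} [Group G] {k : ℕ} (h : IsK G k) (H : Subgroup G) : IsK H k where
  two g hg := by
    apply Subtype.ext
    rw [Subgroup.coe_pow]
    exact h.two g (by rwa [Subgroup.orderOf_coe])
  odd g hg := by
    apply Subtype.ext
    rw [Subgroup.coe_pow, Subgroup.coe_inv]
    exact h.odd g (by rwa [Subgroup.orderOf_coe])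

theorem IsK.of_injective {G H : Type*} [Group G] [Group H] {k : ℕ} (h : IsK G k) (f : H →* G)
    (hf : Function.Injective f) : IsK H k where
  two g hg := by
    apply hf
    rw [map_pow]
    exact h.two _ (by rwa [orderOf_injective f hf])
  odd g hg := by
    apply hf
    rw [map_pow, map_inv]
    exact h.odd _ (by rwa [orderOf_injective f hf])

theorem IsK.coprime {G : Type*} [Group G] [Finite G] {k : ℕ} (h : IsK G k) :
    Nat.Coprime k (Nat.card G) := by
  rw [Nat.coprime_iff_gcd_eq_one]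
  by_contra hne
  obtain ⟨p, hp, hpd⟩ := Nat.exists_prime_and_dvd hne
  have hpk : p ∣ k := hpd.trans (Nat.gcd_dvd_left _ _)
  have hpG : p ∣ Nat.card G := hpd.trans (Nat.gcd_dvd_right _ _)
  haveI : Fact p.Prime := ⟨hp⟩
  obtain ⟨g, hg⟩ := exists_prime_orderOf_dvd_card' p hpG
  have h1 : g ^ k = 1 := by
    rw [← orderOf_dvd_iff_pow_eq_one, hg]
    exact hpk
  have hg1 : g ≠ 1 := by
    rintro rfl
    rw [orderOf_one] at hg
    exact hp.one_lt.ne hg
  rcases hp.eq_two_or_odd' with rfl | hodd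
  · have h2 := h.two g ⟨1, by rw [hg, pow_one]⟩
    exact hg1 (h2.symm.trans h1)
  · have h2 := h.odd g (by rwa [hg])
    exact hg1 (inv_eq_one.1 (h2.symm.trans h1))

theorem IsK.pow_pow {G : Type*} [Group G] [Finite G] {k : ℕ} (h : IsK G k) (g : G) :
    (g ^ k) ^ k = g := by
  have hpos := orderOf_pos g
  obtain ⟨a, m, hm, ham⟩ := Nat.exists_eq_two_pow_mul_odd hpos.ne'
  have ha0 : (2 : ℕ) ^ a ≠ 0 := by positivity
  have hm0 : m ≠ 0 := by
    rintro rfl
    exact absurd hm (by decide)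
  -- the `2`-part
  have h1 : orderOf (g ^ m) = 2 ^ a := by
    rw [orderOf_pow_of_dvd hm0 ⟨2 ^ a, by rw [ham]; ring⟩, ham, Nat.mul_div_cancel _ (Nat.pos_of_ne_zero hm0)]
  have h2 : orderOf (g ^ (2 ^ a)) = m := by
    rw [orderOf_pow_of_dvd ha0 ⟨m, ham⟩, ham, Nat.mul_div_cancel_left _ (Nat.pos_of_ne_zero ha0)]
  have h3 := h.two (g ^ m) ⟨a, h1⟩
  have h4 := h.odd (g ^ (2 ^ a)) (by rwa [h2])
  have h5 : ((2 ^ a : ℕ) : ℤ) ∣ (k : ℤ) - 1 := by
    rw [← h1, orderOf_dvd_iff_zpow_eq_one, zpow_sub, zpow_natCast, h3, zpow_one, mul_inv_cancel]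
  have h6 : ((m : ℕ) : ℤ) ∣ (k : ℤ) + 1 := by
    conv_lhs => rw [← h2]
    rw [orderOf_dvd_iff_zpow_eq_one, zpow_add, zpow_natCast, h4, zpow_one, inv_mul_cancel]
  have h7 : ((orderOf g : ℕ) : ℤ) ∣ (k : ℤ) * k - 1 := by
    rw [ham]
    push_cast at h5 h6 ⊢
    have : (k : ℤ) * k - 1 = (k - 1) * (k + 1) := by ring
    rw [this]
    exact mul_dvd_mul h5 h6
  rw [orderOf_dvd_iff_zpow_eq_one, zpow_sub, zpow_one, zpow_mul, zpow_natCast, zpow_natCast] at h7
  exact mul_inv_eq_one.1 h7

/-- The conclusion of S4522. -/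
def Concl (M : Ideal AlgInt) (G : Type u) [Group G] (S : Subgroup G) [Fintype S] (k : ℕ) : Prop :=
  ∃ χ ∈ Cfsg.principalBlock M G, Even (Cfsg.charDegree (χ : G → ℂ)) ∧
    (∀ g : G, (χ : G → ℂ) (g ^ k) = (χ : G → ℂ) g) ∧
    Cfsg.classInner (fun s : S => (χ : G → ℂ) s) (fun _ => (1 : ℂ)) = 0

/-! ### Blocks over a normal subgroup of `p`-power index -/

theorem mem_of_isPRegular {G : Type*} [Group G] {p : ℕ} (S : Subgroup G) [S.Normal]
    (hidx : ∃ j : ℕ, S.index = p ^ j) (hp : p.Prime) {g : G} (hg : IsPRegular p g) : g ∈ S := by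
  obtain ⟨j, hj⟩ := hidx
  haveI : Finite (G ⧸ S) := Nat.finite_of_card_ne_zero (by
    show S.index ≠ 0
    rw [hj]
    exact pow_ne_zero _ hp.ne_zero)
  have h1 : orderOf (QuotientGroup.mk g : G ⧸ S) ∣ orderOf g := orderOf_map_dvd (QuotientGroup.mk' S) g
  have h2 : orderOf (QuotientGroup.mk g : G ⧸ S) ∣ p ^ j := by
    rw [← hj]
    exact orderOf_dvd_natCard _
  have h3 : Nat.Coprime (orderOf g) (p ^ j) := by
    apply Nat.Coprime.pow_right
    exact ((Nat.Prime.coprime_iff_not_dvd hp).2 hg).symm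
  have h4 : orderOf (QuotientGroup.mk g : G ⧸ S) = 1 := Nat.eq_one_of_dvd_coprimes h3 h1 h2
  rw [orderOf_eq_one_iff] at h4
  exact (QuotientGroup.eq_one_iff g).1 h4

/-- The central character over a member of the principal block. -/
theorem mem_of_over {G : Type*} [Group G] [Finite G] {p : ℕ} [Fact p.Prime] {M : Ideal AlgInt}
    (hM : IsPModular p M) (S : Subgroup G) [S.Normal] [Fintype S]
    (hidx : ∃ j : ℕ, S.index = p ^ j) {χ : IrrCharacter G} {φ : IrrCharacter S}
    (hφ : φ ∈ principalBlock M S)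
    (hover : classInner (fun n : S => (χ : G → ℂ) n) (φ : S → ℂ) ≠ 0) :
    χ ∈ principalBlock M G := by
  classical
  have := isPrime_of_isPModular hM
  have := Fintype.ofFinite G
  show SameBlock M (fun _ => (1 : ℂ)) (χ : G → ℂ)
  refine Cfsg.Agent.Blocks.PRegular.sameBlock_of_isPRegular hM isIrrCharacter_one χ.2 fun g hg => ?_
  have hgS : g ∈ S := mem_of_isPRegular S hidx Fact.out hg
  have h1 := Cfsg.Agent.Blocks.Over.centralChar_eq_of_over S χ.2 φ.2 hover ⟨g, hgS⟩
  have hone : classInner (fun _ : S => (1 : ℂ)) (fun _ : S => (1 : ℂ)) ≠ 0 := by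
    rw [classInner_irr_self isIrrCharacter_one]
    exact one_ne_zero
  have h2 := Cfsg.Agent.Blocks.Over.centralChar_eq_of_over S
    (χ := fun _ : G => (1 : ℂ)) isIrrCharacter_one (θ := fun _ : S => (1 : ℂ))
    isIrrCharacter_one hone ⟨g, hgS⟩
  have h1' : centralChar (χ : G → ℂ) g = inducedCentralChar S (φ : S → ℂ) g := h1
  have h2' : centralChar (fun _ : G => (1 : ℂ)) g = inducedCentralChar S (fun _ : S => (1 : ℂ)) g := h2
  have hst : ∀ x ∈ {h : S | IsConj g (h : G)}, ∀ y, IsConj x y → y ∈ {h : S | IsConj g (h : G)} := by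
    intro x hx y hxy
    have hx' : IsConj g (x : G) := hx
    obtain ⟨c, hc⟩ := isConj_iff.1 hxy
    exact hx'.trans (isConj_iff.2 ⟨c, by rw [← hc]; simp only [_root_.Subgroup.coe_mul, _root_.InvMemClass.coe_inv]⟩)
  rw [h1', h2', inducedCentralChar_def, inducedCentralChar_def,
    finsum_mem_eq_sum_centralChar φ.2 _ hst, finsum_mem_eq_sum_centralChar isIrrCharacter_one _ hst]
  have h3 : SameBlock M (fun _ : S => (1 : ℂ)) (φ : S → ℂ) := hφ
  exact memLocalIdeal_sum_sub_sum fun c _ => h3 _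

/-! ### Generalized characters -/

/-- An integral combination of irreducible characters. -/
structure GC {G : Type*} [Group G] [Fintype G] (π : G → ℂ) : Prop where
  cf : IsClassFunction G π
  int : ∀ χ, IsIrrCharacter G χ → ∃ n : ℤ, classInner π χ = n

section GC

variable {G : Type u} [Group G] [Fintype G] {H : Type v} [Group H] [Fintype H]

theorem GC.mu_spec {π : G → ℂ} (h : GC π) {χ : G → ℂ} (hχ : IsIrrCharacter G χ) :
    classInner π χ = (mu π χ : ℂ) := Cfsg.Agent.H694.mu_spec (h.int χ hχ)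

theorem GC.of_isCharacter {π : G → ℂ} (h : IsCharacter G π) : GC π where
  cf := isCharacter_isClassFunction h
  int χ hχ := by
    obtain ⟨n, hn⟩ := classInner_isNat h (isIrr_isCharacter hχ)
    exact ⟨n, by rw [hn]; push_cast; rfl⟩

theorem GC.of_irr {π : G → ℂ} (h : IsIrrCharacter G π) : GC π := GC.of_isCharacter (isIrr_isCharacter h)

theorem GC.of_rchar {π : G → ℂ} (h : RChar π) : GC π := ⟨h.cf, h.int⟩

theorem GC.add {π ρ : G → ℂ} (h : GC π) (h' : GC ρ) : GC (π + ρ) where
  cf g t := by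
    show π _ + ρ _ = π _ + ρ _
    rw [h.cf g t, h'.cf g t]
  int χ hχ := by
    obtain ⟨a, ha⟩ := h.int χ hχ
    obtain ⟨b, hb⟩ := h'.int χ hχ
    exact ⟨a + b, by rw [classInner_add_left, ha, hb]; push_cast; rfl⟩

theorem GC.zsmul {π : G → ℂ} (h : GC π) (m : ℤ) : GC ((m : ℂ) • π) where
  cf g t := by
    show (m : ℂ) * π _ = (m : ℂ) * π _
    rw [h.cf g t]
  int χ hχ := by
    obtain ⟨a, ha⟩ := h.int χ hχ
    exact ⟨m * a, by rw [classInner_smul_left, ha]; push_cast; rfl⟩

theorem GC.neg {π : G → ℂ} (h : GC π) : GC (-π) := by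
  have h1 := h.zsmul (-1)
  have h2 : ((-1 : ℤ) : ℂ) • π = -π := by
    push_cast
    rw [neg_one_smul]
  rwa [h2] at h1

theorem GC.sub {π ρ : G → ℂ} (h : GC π) (h' : GC ρ) : GC (π - ρ) := by
  rw [sub_eq_add_neg]
  exact h.add h'.neg

/-- Decomposition of the multiplicities of a restriction. -/
theorem GC.classInner_comp [Fintype (IrrCharacter G)] {π : G → ℂ} (h : GC π) (f : H →* G)
    {ψ : H → ℂ} (hψ : IsIrrCharacter H ψ) :
    classInner (fun x => π (f x)) ψ =
      ((∑ χ : IrrCharacter G, mu π χ * mu (fun x => (χ : G → ℂ) (f x)) ψ : ℤ) : ℂ) := by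
  have h1 : (fun x => π (f x)) =
      ∑ χ : IrrCharacter G, (mu π χ : ℂ) • (fun x => (χ : G → ℂ) (f x)) := by
    funext x
    have h2 := congrFun (classFunction_eq_sum h.cf) (f x)
    rw [h2, Finset.sum_apply, Finset.sum_apply]
    refine Finset.sum_congr rfl fun χ _ => ?_
    rw [Pi.smul_apply, Pi.smul_apply, h.mu_spec χ.2]
  rw [h1, classInner_sum_left]
  push_cast
  refine Finset.sum_congr rfl fun χ _ => ?_
  have h3 : classInner (fun x => (χ : G → ℂ) (f x)) ψ =
      (mu (fun x => (χ : G → ℂ) (f x)) ψ : ℂ) :=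
    irr_mu_spec (isCharacter_comp f (isIrr_isCharacter χ.2)) hψ
  rw [classInner_smul_left, h3]

theorem GC.comp {π : G → ℂ} (h : GC π) (f : H →* G) : GC (fun x => π (f x)) where
  cf := fun x y => by
    have := h.cf (f x) (f y)
    simpa only [_root_.map_mul, _root_.map_inv] using this
  int ψ hψ := by
    classical
    haveI := @Fintype.ofFinite (IrrCharacter G) finite_irr
    exact ⟨_, h.classInner_comp f hψ⟩

/-- Induction. -/
theorem GC.indFun (L : Subgroup G) [Fintype L] {π : L → ℂ} (h : GC π) : GC (Cfsg.indFun L π) where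
  cf := Cfsg.Agent.OddOrderCharacters.Clifford.isClassFunction_indFun L π
  int χ hχ := by
    rw [Cfsg.Agent.OddOrderCharacters.Clifford.classInner_indFun L π χ (isIrr_isClassFunction hχ)]
    have h0 : GC (fun x : L => χ x) := (GC.of_irr hχ).comp L.subtype
    classical
    haveI := @Fintype.ofFinite (IrrCharacter L) finite_irr
    rw [classInner_eq_sum h.cf h0.cf]
    refine ⟨∑ ψ : IrrCharacter L, mu π ψ * mu (fun x : L => χ x) ψ, ?_⟩
    push_cast
    refine Finset.sum_congr rfl fun ψ _ => ?_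
    rw [h.mu_spec ψ.2, h0.mu_spec ψ.2, map_intCast]

theorem GC.resTo {S T : Subgroup G} [Fintype S] [Fintype T] (hST : S ≤ T) {π : T → ℂ}
    (h : GC π) : GC (resTo hST π) := h.comp (Subgroup.inclusion hST)

end GC

/-! ### Fixed points -/

theorem exists_fixed {X : Type*} [Finite X] {P : Type*} [Group P] [MulAction P X]
    (hP : IsPGroup 2 P) (s : X → X) (hs : ∀ x, s (s x) = x) (hcomm : ∀ (g : P) x, s (g • x) = g • s x)
    (hodd : Odd (Nat.card X)) : ∃ x, (∀ g : P, g • x = x) ∧ s x = x := by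
  classical
  haveI : Fact (Nat.Prime 2) := ⟨Nat.prime_two⟩
  have h1 := hP.card_modEq_card_fixedPoints X
  have h2 : Odd (Nat.card (MulAction.fixedPoints P X)) := by
    rw [Nat.odd_iff] at hodd ⊢
    have h3 : Nat.card X % 2 = Nat.card (MulAction.fixedPoints P X) % 2 := h1
    rw [← h3, hodd]
  have hsf : ∀ x : MulAction.fixedPoints P X, s x ∈ MulAction.fixedPoints P X := by
    intro x g
    rw [← hcomm, x.2 g]
  let σ : Equiv.Perm (MulAction.fixedPoints P X) :=
    { toFun := fun x => ⟨s x, hsf x⟩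
      invFun := fun x => ⟨s x, hsf x⟩
      left_inv := fun x => Subtype.ext (hs x)
      right_inv := fun x => Subtype.ext (hs x) }
  have hσ : σ ^ 2 ^ 1 = 1 := by
    ext x
    simp only [pow_one, sq, Equiv.Perm.mul_apply, Equiv.Perm.one_apply]
    exact hs x
  haveI : Fintype (MulAction.fixedPoints P X) := Fintype.ofFinite _
  have h3 : ¬ 2 ∣ Fintype.card (MulAction.fixedPoints P X) := by
    rw [← Nat.card_eq_fintype_card]
    intro h
    exact (Nat.not_even_iff_odd.2 h2) (even_iff_two_dvd.2 h)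
  obtain ⟨x, hx⟩ := Equiv.Perm.exists_fixed_point_of_prime h3 hσ
  exact ⟨x, fun g => x.2 g, congrArg Subtype.val hx⟩

theorem exists_fixed_of_sum {X : Type*} [Fintype X] (s : X → X) (hs : ∀ x, s (s x) = x)
    (f : X → ℤ) (hf : ∀ x, f (s x) = f x) (hodd : Odd (∑ x, f x)) : ∃ x, s x = x ∧ Odd (f x) := by
  classical
  by_contra hcon
  push Not at hcon
  have h1 : ((∑ x, f x : ℤ) : ZMod 2) = 0 := by
    rw [Int.cast_sum]
    refine Finset.sum_involution (fun x _ => s x) ?_ ?_ (fun _ _ => Finset.mem_univ _)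
      (fun x _ => hs x)
    · intro x _
      rw [hf]
      exact zmod_two_add_self _
    · intro x _ hx hsx
      have h2 := hcon x hsx
      rw [Int.not_odd_iff_even, even_iff_two_dvd] at h2
      exact hx ((ZMod.intCast_zmod_eq_zero_iff_dvd _ 2).2 (by exact_mod_cast h2))
  rw [ZMod.intCast_zmod_eq_zero_iff_dvd] at h1
  exact (Int.not_even_iff_odd.2 hodd) (even_iff_two_dvd.2 (by exact_mod_cast h1))

/-! ### The inertia group -/

section inertia

variable {G : Type u} [Group G] [Fintype G] {M : Ideal AlgInt} {k : ℕ}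

theorem pw_pw (hk : IsK G k) (χ : IrrCharacter G) :
    Twist.pw hk.coprime (Twist.pw hk.coprime χ) = χ := by
  apply Subtype.ext
  funext g
  rw [Twist.pw_apply, Twist.pw_apply, hk.pow_pow]

/-- A twist of both arguments. -/
theorem mu_pow (hk : IsK G k) {π : G → ℂ} (hπ : ∀ g, π (g ^ k) = π g) (χ : IrrCharacter G) :
    mu π (Twist.pw hk.coprime χ : G → ℂ) = mu π (χ : G → ℂ) := by
  have h := Twist.classInner_pow hk.coprime π (χ : G → ℂ)
  rw [mu, mu, ← h]
  congr 2
  congr 1
  funext g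
  exact (hπ g).symm

/-- A fixed constituent of odd multiplicity of a fixed generalized character, over a fixed character
of a subgroup. -/
theorem exists_odd (hk : IsK G k) (S : Subgroup G) [Fintype S] {φ : S → ℂ}
    (hφ : IsIrrCharacter S φ) (hφk : ∀ s : S, φ (s ^ k) = φ s) {π : G → ℂ} (hπ : GC π)
    (hπk : ∀ g, π (g ^ k) = π g) (hodd : Odd (mu (fun s : S => π s) φ)) :
    ∃ χ : IrrCharacter G, (∀ g, (χ : G → ℂ) (g ^ k) = (χ : G → ℂ) g) ∧
      Odd (mu (fun s : S => (χ : G → ℂ) s) φ) := by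
  classical
  haveI := @Fintype.ofFinite (IrrCharacter G) finite_irr
  have h1 := hπ.classInner_comp S.subtype hφ
  have h2 := mu_eq h1
  have h2' : mu (fun s : S => π s) φ =
      ∑ χ : IrrCharacter G, mu π χ * mu (fun x : S => (χ : G → ℂ) (S.subtype x)) φ := h2
  rw [h2'] at hodd
  have hinv : ∀ χ : IrrCharacter G, mu π (Twist.pw hk.coprime χ : G → ℂ) *
      mu (fun x : S => (Twist.pw hk.coprime χ : G → ℂ) (S.subtype x)) φ =
      mu π (χ : G → ℂ) * mu (fun x : S => (χ : G → ℂ) (S.subtype x)) φ := by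
    intro χ
    rw [mu_pow hk hπk]
    congr 1
    have h3 := Twist.classInner_pow (Twist.coprime_subgroup hk.coprime S)
      (fun x : S => (χ : G → ℂ) x) φ
    rw [mu, mu]
    congr 2
    have h4 : (fun x : S => (Twist.pw hk.coprime χ : G → ℂ) (S.subtype x)) =
        fun x : S => (fun x : S => (χ : G → ℂ) x) (x ^ k) := by
      funext x
      rw [Twist.pw_apply]
      rfl
    have h5 : (fun g : S => φ (g ^ k)) = φ := funext hφk
    rw [h4]
    rw [h5] at h3
    exact h3
  obtain ⟨χ, hχ1, hχ2⟩ := exists_fixed_of_sum (Twist.pw hk.coprime) (pw_pw hk) _ hinv hodd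
  refine ⟨χ, (Twist.fixed_iff hk.coprime χ).1 hχ1, ?_⟩
  rw [Int.odd_mul] at hχ2
  exact hχ2.2

theorem indFun_pow {G : Type u} [Group G] [Fintype G] (I : Subgroup G) {k : ℕ} (hk : IsK G k)
    {ψ : I → ℂ} (hψ : ∀ t : I, ψ (t ^ k) = ψ t) (g : G) : indFun I ψ (g ^ k) = indFun I ψ g := by
  classical
  show (Nat.card I : ℂ)⁻¹ * _ = (Nat.card I : ℂ)⁻¹ * _
  congr 1
  refine Finset.sum_congr rfl fun x _ => ?_
  have h1 : x⁻¹ * g ^ k * x = (x⁻¹ * g * x) ^ k := by
    have := conj_pow (i := k) (a := x⁻¹) (b := g)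
    simpa only [_root_.inv_inv] using this.symm
  rw [h1]
  set y := x⁻¹ * g * x with hy
  have hiff : y ^ k ∈ I ↔ y ∈ I := by
    constructor
    · intro h
      have h2 := I.pow_mem h k
      rwa [hk.pow_pow] at h2
    · intro h
      exact I.pow_mem h k
  by_cases hyI : y ∈ I
  · have e1 : extendByZero I ψ y = ψ ⟨y, hyI⟩ :=
      Function.Injective.extend_apply Subtype.val_injective ψ 0 (⟨y, hyI⟩ : I)
    have e2 : extendByZero I ψ (y ^ k) = ψ ⟨y ^ k, hiff.2 hyI⟩ :=
      Function.Injective.extend_apply Subtype.val_injective ψ 0 (⟨y ^ k, hiff.2 hyI⟩ : I)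
    rw [e1, e2, ← hψ ⟨y, hyI⟩]
    rfl
  · have hyk : y ^ k ∉ I := fun h => hyI (hiff.1 h)
    have e1 : extendByZero I ψ y = 0 := by
      rw [extendByZero, Function.extend_apply' _ _ _ (by rintro ⟨t, ht⟩; exact hyI (ht ▸ t.2))]
      rfl
    have e2 : extendByZero I ψ (y ^ k) = 0 := by
      rw [extendByZero, Function.extend_apply' _ _ _ (by rintro ⟨t, ht⟩; exact hyk (ht ▸ t.2))]
      rfl
    rw [e1, e2]

/-- **The conclusion from the inertia group.** -/
theorem of_inertia (hM : IsPModular 2 M) (S : Subgroup G) [hS : S.Normal] [Fintype S]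
    (hidx : ∃ j : ℕ, S.index = 2 ^ j) (hk : IsK G k) (φ : IrrCharacter S)
    (hφ : φ ∈ principalBlock M S) (hφk : ∀ s : S, (φ : S → ℂ) (s ^ k) = (φ : S → ℂ) s)
    (hφ1 : (φ : S → ℂ) ≠ fun _ => 1) (I : Subgroup G) [Fintype I]
    (hI : ∀ g, g ∈ I ↔ conjFn S (φ : S → ℂ) g = φ) (hSI : S ≤ I) {π : I → ℂ} (hπ : GC π)
    (hπk : ∀ t : I, π (t ^ k) = π t) (hodd : Odd (mu (resTo hSI π) (φ : S → ℂ)))
    (heven : Even (charDegree (φ : S → ℂ)) ∨ I ≠ ⊤) : Concl M G S k := by
  classical
  haveI : Fact (Nat.Prime 2) := ⟨Nat.prime_two⟩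
  haveI : Fintype (S.subgroupOf I) := Fintype.ofFinite _
  have hkI : IsK I k := hk.sub I
  -- the character of `I`
  obtain ⟨ψ, hψk, hψodd⟩ := exists_odd hkI (S.subgroupOf I) (irr_dn S I hSI φ.2)
    (by
      intro s
      show (φ : S → ℂ) (Subgroup.subgroupOfEquivOfLe hSI (s ^ k)) = (φ : S → ℂ) (Subgroup.subgroupOfEquivOfLe hSI s)
      rw [map_pow, hφk]) hπ hπk (by
      rw [mu_dn S I hSI]
      exact hodd)
  rw [mu_dn S I hSI] at hψodd
  have hmu0 : mu (resTo hSI (ψ : I → ℂ)) (φ : S → ℂ) ≠ 0 := by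
    intro h0
    rw [h0] at hψodd
    exact absurd hψodd (by decide)
  have hcr : IsCharacter S (resTo hSI (ψ : I → ℂ)) :=
    Cfsg.Agent.OddOrderCharacters.PF9.CliffGen.isCharacter_resTo hSI (isIrr_isCharacter ψ.2)
  have hcI : classInner (resTo hSI (ψ : I → ℂ)) (φ : S → ℂ) =
      (mu (resTo hSI (ψ : I → ℂ)) (φ : S → ℂ) : ℂ) := irr_mu_spec hcr φ.2
  have h0 : classInner (resTo hSI (ψ : I → ℂ)) (φ : S → ℂ) ≠ 0 := by
    rw [hcI]
    exact_mod_cast hmu0
  have hirr : IsIrrCharacter G (indFun I (ψ : I → ℂ)) := irr_ind φ.2 hI hSI ψ.2 h0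
  -- the degree
  have hψ1 : (ψ : I → ℂ) 1 = (mu (resTo hSI (ψ : I → ℂ)) (φ : S → ℂ) : ℂ) * (φ : S → ℂ) 1 := by
    have h := apply_one_of_invariant (S.subgroupOf I) (irr_dn S I hSI φ.2)
      (fun g => inv_dn S I hSI (fun g hg => (hI g).1 hg) g) ψ.2 (by
        rw [mu_dn S I hSI]
        exact hmu0)
    rw [mu_dn S I hSI] at h
    rw [h]
    rfl
  obtain ⟨e, he⟩ : ∃ e : ℕ, (e : ℤ) = mu (resTo hSI (ψ : I → ℂ)) (φ : S → ℂ) := by
    obtain ⟨e, he⟩ := classInner_isNat hcr (isIrr_isCharacter φ.2)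
    refine ⟨e, ?_⟩
    have : mu (resTo hSI (ψ : I → ℂ)) (φ : S → ℂ) = (e : ℤ) := mu_eq (by rw [he]; push_cast; rfl)
    rw [this]
  have he0 : e ≠ 0 := by
    rintro rfl
    exact hmu0 he.symm
  have hdeg : charDegree (indFun I (ψ : I → ℂ)) = I.index * (e * charDegree (φ : S → ℂ)) := by
    have h1 := Cfsg.Agent.OddOrderCharacters.IndRes.indFun_apply_one (H := I) (ψ : I → ℂ)
    rw [hψ1, ← he, Cfsg.Agent.Blocks.Basic.irr_one_eq_charDegree φ.2,
      Cfsg.Agent.Blocks.Basic.irr_one_eq_charDegree hirr] at h1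
    exact_mod_cast h1
  -- `φ` is a constituent of the restriction
  have h5 : classInner (fun t : I => indFun I (ψ : I → ℂ) (t : G)) (ψ : I → ℂ) = 1 := by
    have h6 := Cfsg.Agent.OddOrderCharacters.Clifford.classInner_indFun I (ψ : I → ℂ)
      (indFun I (ψ : I → ℂ)) (isIrr_isClassFunction hirr)
    rw [classInner_irr_self hirr] at h6
    rw [← classInner_conj_symm, ← h6, map_one]
  have hcI2 : IsCharacter I (fun t : I => indFun I (ψ : I → ℂ) (t : G)) :=
    isCharacter_comp I.subtype (isIrr_isCharacter hirr)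
  have h7 := Cfsg.Agent.OddOrderCharacters.Clifford.isCharacter_sub_irr hcI2 ψ.2
    (by rw [h5]; exact one_ne_zero)
  set ρ : I → ℂ := (fun t : I => indFun I (ψ : I → ℂ) (t : G)) - (ψ : I → ℂ) with hρ
  have h8 : (fun n : S => indFun I (ψ : I → ℂ) (n : G)) = resTo hSI ρ + resTo hSI (ψ : I → ℂ) := by
    funext n
    show _ = ρ _ + (ψ : I → ℂ) _
    rw [hρ]
    show indFun I (ψ : I → ℂ) (n : G) = indFun I (ψ : I → ℂ) (n : G) - (ψ : I → ℂ) _ + (ψ : I → ℂ) _
    rw [sub_add_cancel]
  obtain ⟨m, hm⟩ := classInner_isNat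
    (Cfsg.Agent.OddOrderCharacters.PF9.CliffGen.isCharacter_resTo hSI h7) (isIrr_isCharacter φ.2)
  have h9 : classInner (fun n : S => indFun I (ψ : I → ℂ) (n : G)) (φ : S → ℂ) ≠ 0 := by
    rw [h8, classInner_add_left, hm, hcI, ← he]
    have : (m : ℂ) + ((e : ℤ) : ℂ) = ((m + e : ℕ) : ℂ) := by push_cast; ring
    rw [this]
    exact_mod_cast (by omega : m + e ≠ 0)
  refine ⟨⟨indFun I (ψ : I → ℂ), hirr⟩, mem_of_over hM S hidx hφ h9, ?_,
    fun g => indFun_pow I hk hψk g, ?_⟩
  · show Even (charDegree (indFun I (ψ : I → ℂ)))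
    rw [hdeg]
    rcases heven with h | h
    · exact (h.mul_left e).mul_left _
    · obtain ⟨j, hj⟩ := hidx
      have h10 : I.index ∣ 2 ^ j := by
        rw [← hj]
        exact Subgroup.index_dvd_of_le hSI
      obtain ⟨i, -, hi⟩ := (Nat.dvd_prime_pow Nat.prime_two).1 h10
      have hi0 : i ≠ 0 := by
        rintro rfl
        rw [pow_zero, Subgroup.index_eq_one] at hi
        exact h hi
      rw [hi]
      exact ((even_two.pow_of_ne_zero hi0)).mul_right _
  · -- the principal character is not a constituent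
    show classInner (fun s : S => indFun I (ψ : I → ℂ) (s : G)) (fun _ => (1 : ℂ)) = 0
    by_contra hne
    obtain ⟨g, hg⟩ := Cfsg.Agent.Characters.Clifford.exists_conj_of_constituents S hirr
      isIrrCharacter_one φ.2 hne h9
    apply hφ1
    rw [hg]
    rfl

end inertia

/-! ### Invariant characters -/

section invariant

open Cfsg.Agent.Blocks.Covering (conjIrr conjIrr_conjIrr conjIrr_one conjIrr_apply conjIrr_at_one)

variable {G : Type u} [Group G] [Fintype G] {M : Ideal AlgInt} {k : ℕ}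

theorem conjIrr_mem_self (S : Subgroup G) [S.Normal] {g : G} (hg : g ∈ S) (φ : IrrCharacter S) :
    conjIrr S g φ = φ := by
  apply Subtype.ext
  funext n
  rw [conjIrr_apply]
  have h1 : MulAut.conjNormal g n = (⟨g, hg⟩ : S) * n * (⟨g, hg⟩ : S)⁻¹ := by
    ext
    rw [MulAut.conjNormal_apply]
    rfl
  rw [h1]
  exact isIrr_isClassFunction φ.2 _ _

theorem conjIrr_pw (S : Subgroup G) [S.Normal] (hk : IsK G k) (g : G) (φ : IrrCharacter S) :
    conjIrr S g (Twist.pw (hk.sub S).coprime φ) = Twist.pw (hk.sub S).coprime (conjIrr S g φ) := by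
  apply Subtype.ext
  funext n
  show (φ : S → ℂ) ((MulAut.conjNormal g : MulAut S) n ^ k) =
    (φ : S → ℂ) ((MulAut.conjNormal g : MulAut S) (n ^ k))
  rw [map_pow]

/-- The action of the group on the characters of a normal subgroup. -/
@[reducible] noncomputable def irrAction (S : Subgroup G) [S.Normal] (D : Subgroup G) (f : IrrCharacter S → Prop)
    (hf : ∀ d ∈ D, ∀ φ, f φ → f (conjIrr S d φ)) (P : Subgroup D) :
    MulAction P {φ : IrrCharacter S // f φ} where
  smul d φ := ⟨conjIrr S ((d⁻¹ : P) : D) φ.1, hf _ ((d⁻¹ : P) : D).2 _ φ.2⟩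
  one_smul φ := by
    apply Subtype.ext
    show conjIrr S (((1 : P)⁻¹ : P) : D) φ.1 = φ.1
    rw [inv_one]
    exact conjIrr_one S φ.1
  mul_smul a b φ := by
    apply Subtype.ext
    show conjIrr S (((a * b)⁻¹ : P) : D) φ.1 =
      conjIrr S ((a⁻¹ : P) : D) (conjIrr S ((b⁻¹ : P) : D) φ.1)
    rw [conjIrr_conjIrr, mul_inv_rev]
    rfl

/-- An odd family of characters of `S`, stable under `D` and the power map, has an invariant
member. -/
theorem exists_inv (S : Subgroup G) [hS : S.Normal] [Fintype S] (hidx : ∃ j : ℕ, S.index = 2 ^ j)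
    (hk : IsK G k) (D : Subgroup G) (f : IrrCharacter S → Prop)
    (hf : ∀ d ∈ D, ∀ φ, f φ → f (conjIrr S d φ))
    (hfk : ∀ φ, f φ → f (Twist.pw (hk.sub S).coprime φ))
    (hodd : Odd (Nat.card {φ : IrrCharacter S // f φ})) :
    ∃ φ, f φ ∧ (∀ d ∈ D, conjIrr S d φ = φ) ∧ Twist.pw (hk.sub S).coprime φ = φ := by
  classical
  haveI : Fact (Nat.Prime 2) := ⟨Nat.prime_two⟩
  haveI := finite_irr (G := S)
  obtain ⟨P⟩ : Nonempty (Sylow 2 D) := inferInstance
  letI := irrAction S D f hf (P : Subgroup D)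
  obtain ⟨φ, hφ1, hφ2⟩ := exists_fixed (X := {φ : IrrCharacter S // f φ}) (P := (P : Subgroup D))
    P.isPGroup' (fun φ => ⟨Twist.pw (hk.sub S).coprime φ.1, hfk _ φ.2⟩)
    (fun φ => Subtype.ext (pw_pw (hk.sub S) φ.1))
    (fun g φ => Subtype.ext (conjIrr_pw S hk _ φ.1).symm) hodd
  refine ⟨φ.1, φ.2, ?_, congrArg Subtype.val hφ2⟩
  have hP : ∀ d : (P : Subgroup D), conjIrr S ((d : D) : G) φ.1 = φ.1 := by
    intro d
    have h1 := congrArg Subtype.val (hφ1 d⁻¹)
    have h2 : conjIrr S ((((d⁻¹ : (P : Subgroup D))⁻¹ : (P : Subgroup D)) : D) : G) φ.1 = φ.1 := h1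
    rwa [inv_inv] at h2
  -- `D = P S`
  have hN : (S.subgroupOf D).Normal := inferInstance
  have htop : (P : Subgroup D) ⊔ S.subgroupOf D = ⊤ := by
    rw [← Subgroup.index_eq_one]
    obtain ⟨j, hj⟩ := hidx
    have h1 : ((P : Subgroup D) ⊔ S.subgroupOf D).index ∣ 2 ^ j := by
      rw [← hj]
      refine (Subgroup.index_dvd_of_le le_sup_right).trans ?_
      exact Subgroup.relIndex_dvd_index_of_normal S D
    have h2 : ((P : Subgroup D) ⊔ S.subgroupOf D).index ∣ (P : Subgroup D).index :=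
      Subgroup.index_dvd_of_le le_sup_left
    have h3 : ¬ 2 ∣ (P : Subgroup D).index := P.not_dvd_index
    have h4 : Nat.Coprime (2 ^ j) (P : Subgroup D).index :=
      Nat.Coprime.pow_left _ ((Nat.Prime.coprime_iff_not_dvd Nat.prime_two).2 h3)
    exact Nat.eq_one_of_dvd_coprimes h4 h1 h2
  intro d hd
  have h1 : (⟨d, hd⟩ : D) ∈ (P : Subgroup D) ⊔ S.subgroupOf D := by
    rw [htop]
    exact Subgroup.mem_top _
  obtain ⟨x, hx, s, hs, hxs⟩ := Subgroup.mem_sup_of_normal_right.1 h1
  have h2 : d = (x : G) * (s : G) := (congrArg Subtype.val hxs).symm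
  have h3 : conjIrr S (s : G) φ.1 = φ.1 := conjIrr_mem_self S hs φ.1
  have h4 := hP ⟨x, hx⟩
  have h5 : conjIrr S (s : G) (conjIrr S (x : G) φ.1) = conjIrr S ((x : G) * (s : G)) φ.1 :=
    conjIrr_conjIrr S _ _ _
  rw [h2, ← h5]
  have h6 : conjIrr S (x : G) φ.1 = φ.1 := h4
  rw [h6, h3]

theorem centralChar_pw (hk : IsK G k) (χ : G → ℂ) (g : G) :
    centralChar (fun x => χ (x ^ k)) g = centralChar χ (g ^ k) := by
  have h1 : Subgroup.centralizer ({g ^ k} : Set G) = Subgroup.centralizer ({g} : Set G) := by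
    apply le_antisymm
    · intro x hx
      rw [Subgroup.mem_centralizer_singleton_iff] at hx ⊢
      have h2 : Commute (g ^ k) x := by
        first
          | exact hx
          | exact hx.symm
      have h3 := h2.pow_left k
      rw [hk.pow_pow] at h3
      first
        | exact h3
        | exact h3.symm
    · intro x hx
      rw [Subgroup.mem_centralizer_singleton_iff] at hx ⊢
      have h2 : Commute g x := by
        first
          | exact hx
          | exact hx.symm
      have h3 := h2.pow_left k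
      first
        | exact h3
        | exact h3.symm
  rw [centralChar_def, centralChar_def, h1, one_pow]

/-- The principal block is stable under the power map. -/
theorem pw_mem (hk : IsK G k) {χ : IrrCharacter G} (hχ : χ ∈ principalBlock M G) :
    Twist.pw hk.coprime χ ∈ principalBlock M G := by
  intro g
  have h1 := hχ (g ^ k)
  rw [← centralChar_pw hk (fun _ => 1), ← centralChar_pw hk (χ : G → ℂ)] at h1
  exact h1

/-- The principal block is stable under conjugation. -/
theorem conjIrr_mem (S : Subgroup G) [S.Normal] (g : G) {φ : IrrCharacter S}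
    (hφ : φ ∈ principalBlock M S) : conjIrr S g φ ∈ principalBlock M S := by
  have h1 : SameBlock M (((⟨fun _ => 1, isIrrCharacter_one⟩ : IrrCharacter S)) : S → ℂ) (φ : S → ℂ) := hφ
  exact (Cfsg.Agent.Blocks.Covering.sameBlock_conjIrr S g h1 :)

theorem charDegree_conjIrr (S : Subgroup G) [S.Normal] (g : G) (φ : IrrCharacter S) :
    charDegree (conjIrr S g φ : S → ℂ) = charDegree (φ : S → ℂ) := by
  rw [charDegree_def, charDegree_def, conjIrr_at_one]

theorem charDegree_pw (hk : IsK G k) (χ : IrrCharacter G) :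
    charDegree (Twist.pw hk.coprime χ : G → ℂ) = charDegree (χ : G → ℂ) := by
  rw [charDegree_def, charDegree_def, Twist.pw_apply, one_pow]

theorem mu_conjIrr (S : Subgroup G) [S.Normal] [Fintype S] {π : G → ℂ} (hπ : IsClassFunction G π)
    (g : G) (φ : IrrCharacter S) :
    mu (fun s : S => π s) (conjIrr S g φ : S → ℂ) = mu (fun s : S => π s) (φ : S → ℂ) := by
  have h := Clifford.classInner_restrict_conjNormal (N := S) hπ (φ : S → ℂ) g
  rw [mu, mu, ← h]
  rfl

/-- The parity of the number of even degree constituents of odd multiplicity. -/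
theorem odd_card_iff [Fintype (IrrCharacter G)] {π : G → ℂ} (hπ : GC π) {a b : ℤ}
    (ha : classInner π π = a) (hb : π 1 = b) :
    Odd (Nat.card {φ : IrrCharacter G // Even (charDegree (φ : G → ℂ)) ∧ Odd (mu π (φ : G → ℂ))}) ↔
      Odd (a + b) := by
  classical
  have h1 : a = ∑ φ : IrrCharacter G, mu π (φ : G → ℂ) * mu π (φ : G → ℂ) := by
    have h2 := classInner_eq_sum hπ.cf hπ.cf
    rw [ha] at h2
    have h3 : ∀ φ : IrrCharacter G, classInner π (φ : G → ℂ) * conj (classInner π (φ : G → ℂ)) =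
        ((mu π (φ : G → ℂ) * mu π (φ : G → ℂ) : ℤ) : ℂ) := by
      intro φ
      rw [hπ.mu_spec φ.2, map_intCast]
      push_cast
      rfl
    rw [Finset.sum_congr rfl fun φ _ => h3 φ] at h2
    exact_mod_cast h2
  have h2 : b = ∑ φ : IrrCharacter G, mu π (φ : G → ℂ) * (charDegree (φ : G → ℂ) : ℤ) := by
    have h3 := congrFun (classFunction_eq_sum hπ.cf) 1
    rw [hb, Finset.sum_apply] at h3
    have h4 : ∀ φ : IrrCharacter G, (classInner π (φ : G → ℂ) • (φ : G → ℂ)) 1 =
        ((mu π (φ : G → ℂ) * (charDegree (φ : G → ℂ) : ℤ) : ℤ) : ℂ) := by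
      intro φ
      rw [Pi.smul_apply, hπ.mu_spec φ.2, irr_one_eq_charDegree φ.2]
      push_cast
      rfl
    rw [Finset.sum_congr rfl fun φ _ => h4 φ] at h3
    exact_mod_cast h3
  have key : ((Nat.card {φ : IrrCharacter G // Even (charDegree (φ : G → ℂ)) ∧
      Odd (mu π (φ : G → ℂ))} : ℕ) : ZMod 2) = ((a + b : ℤ) : ZMod 2) := by
    rw [Nat.card_eq_fintype_card, Fintype.card_subtype, Finset.card_filter, h1, h2,
      ← Finset.sum_add_distrib]
    push_cast
    refine Finset.sum_congr rfl fun φ _ => ?_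
    split_ifs with h
    · obtain ⟨⟨m, hm⟩, ⟨n, hn⟩⟩ := h
      rw [hn, hm]
      push_cast
      have e : ∀ x y : ZMod 2, 1 = (2 * x + 1) * (2 * x + 1) + (2 * x + 1) * (y + y) := by decide
      exact e _ _
    · rcases Nat.even_or_odd (charDegree (φ : G → ℂ)) with h5 | h5
      · have h6 : Even (mu π (φ : G → ℂ)) := by
          rw [← Int.not_odd_iff_even]
          exact fun h6 => h ⟨h5, h6⟩
        obtain ⟨n, hn⟩ := h6
        rw [hn]
        push_cast
        have e : ∀ x y : ZMod 2, 0 = (x + x) * (x + x) + (x + x) * y := by decide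
        exact e _ _
      · obtain ⟨m, hm⟩ := h5
        rw [hm]
        push_cast
        have e : ∀ x y : ZMod 2, 0 = x * x + x * (2 * y + 1) := by decide
        exact e _ _
  rw [← Int.not_even_iff_odd (n := a + b), even_iff_two_dvd, ← Nat.not_even_iff_odd, even_iff_two_dvd]
  have h3 := ZMod.intCast_zmod_eq_zero_iff_dvd (a + b) 2
  have h4 := (ZMod.natCast_eq_zero_iff (Nat.card {φ : IrrCharacter G //
    Even (charDegree (φ : G → ℂ)) ∧ Odd (mu π (φ : G → ℂ))}) 2)
  rw [not_iff_not, ← h4, key, h3]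
  norm_cast

/-! ### Two classes swapped by `G` -/

theorem mu_conj_of_inv (S : Subgroup G) [S.Normal] [Fintype S] {F : S → ℂ} (d : G)
    (hF : ∀ s : S, F (MulAut.conjNormal d s) = F s) (φ : IrrCharacter S) :
    mu F (conjIrr S d φ : S → ℂ) = mu F (φ : S → ℂ) := by
  have h1 := Clifford.classInner_comp_mulEquiv (MulAut.conjNormal d : MulAut S) F (φ : S → ℂ)
  have h2 : (F ∘ (MulAut.conjNormal d : MulAut S)) = F := funext hF
  rw [h2] at h1
  rw [mu, mu, ← h1]
  rfl

/-- The parity of the number of constituents of odd multiplicity in the first, even in the second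
generalized character. -/
theorem odd_card_iff' [Fintype (IrrCharacter G)] {π ρ : G → ℂ} (hπ : GC π) (hρ : GC ρ) {a b : ℤ}
    (ha : classInner π π = a) (hb : classInner π ρ = b) :
    Odd (Nat.card {φ : IrrCharacter G // Odd (mu π (φ : G → ℂ)) ∧ Even (mu ρ (φ : G → ℂ))}) ↔
      Odd (a + b) := by
  classical
  have hgen : ∀ {ρ : G → ℂ}, GC ρ → ∀ {a : ℤ}, classInner π ρ = a →
      a = ∑ φ : IrrCharacter G, mu π (φ : G → ℂ) * mu ρ (φ : G → ℂ) := by
    intro ρ hρ a ha
    have h2 := classInner_eq_sum hπ.cf hρ.cf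
    rw [ha] at h2
    have h3 : ∀ φ : IrrCharacter G, classInner π (φ : G → ℂ) * conj (classInner ρ (φ : G → ℂ)) =
        ((mu π (φ : G → ℂ) * mu ρ (φ : G → ℂ) : ℤ) : ℂ) := by
      intro φ
      rw [hπ.mu_spec φ.2, hρ.mu_spec φ.2, map_intCast]
      push_cast
      rfl
    rw [Finset.sum_congr rfl fun φ _ => h3 φ] at h2
    exact_mod_cast h2
  have key : ((Nat.card {φ : IrrCharacter G // Odd (mu π (φ : G → ℂ)) ∧
      Even (mu ρ (φ : G → ℂ))} : ℕ) : ZMod 2) = ((a + b : ℤ) : ZMod 2) := by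
    rw [Nat.card_eq_fintype_card, Fintype.card_subtype, Finset.card_filter, hgen hπ ha, hgen hρ hb,
      ← Finset.sum_add_distrib]
    push_cast
    refine Finset.sum_congr rfl fun φ _ => ?_
    split_ifs with h
    · obtain ⟨⟨m, hm⟩, ⟨n, hn⟩⟩ := h
      rw [hn, hm]
      push_cast
      have e : ∀ x y : ZMod 2, 1 = (2 * x + 1) * (2 * x + 1) + (2 * x + 1) * (y + y) := by decide
      exact e _ _
    · rcases Int.even_or_odd (mu π (φ : G → ℂ)) with h5 | h5
      · obtain ⟨n, hn⟩ := h5
        rw [hn]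
        push_cast
        have e : ∀ x y : ZMod 2, 0 = (x + x) * (x + x) + (x + x) * y := by decide
        exact e _ _
      · have h6 : Odd (mu ρ (φ : G → ℂ)) := by
          rw [← Int.not_even_iff_odd]
          exact fun h6 => h ⟨h5, h6⟩
        obtain ⟨m, hm⟩ := h5
        obtain ⟨n, hn⟩ := h6
        rw [hm, hn]
        push_cast
        have e : ∀ x y : ZMod 2, 0 = (2 * x + 1) * (2 * x + 1) + (2 * x + 1) * (2 * y + 1) := by
          decide
        exact e _ _
  rw [← Int.not_even_iff_odd (n := a + b), even_iff_two_dvd, ← Nat.not_even_iff_odd, even_iff_two_dvd]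
  have h3 := ZMod.intCast_zmod_eq_zero_iff_dvd (a + b) 2
  have h4 := (ZMod.natCast_eq_zero_iff (Nat.card {φ : IrrCharacter G //
    Odd (mu π (φ : G → ℂ)) ∧ Even (mu ρ (φ : G → ℂ))}) 2)
  rw [not_iff_not, ← h4, key, h3]
  norm_cast

/-- **The conclusion from an odd number of constituents of one of two swapped classes.** -/
theorem of_sum_pair (hM : IsPModular 2 M) (S : Subgroup G) [hS : S.Normal] [Fintype S]
    (hidx : ∃ j : ℕ, S.index = 2 ^ j) (hk : IsK G k) (D : Subgroup G) [Fintype D]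
    (hD : D.index = 2) (hSD : S ≤ D) {π : D → ℂ} (hπ : GC π) (hπk : ∀ t : D, π (t ^ k) = π t)
    (g₀ : G) (hg₀ : g₀ ∉ D)
    (hodd : Odd (Nat.card {φ : IrrCharacter S // φ ∈ principalBlock M S ∧
      Odd (mu (resTo hSD π) (φ : S → ℂ)) ∧
      Even (mu (fun s : S => resTo hSD π (MulAut.conjNormal g₀ s)) (φ : S → ℂ))})) :
    Concl M G S k := by
  classical
  haveI : D.Normal := Subgroup.normal_of_index_eq_two hD
  have hinv1 : ∀ d ∈ D, ∀ s : S, resTo hSD π (MulAut.conjNormal d s) = resTo hSD π s := by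
    intro d hd s
    have h1 := hπ.cf ⟨s, hSD s.2⟩ ⟨d, hd⟩
    rw [← show π ⟨s, hSD s.2⟩ = resTo hSD π s from rfl, ← h1]
    rfl
  have hinv2 : ∀ d ∈ D, ∀ s : S,
      (fun s : S => resTo hSD π (MulAut.conjNormal g₀ s)) (MulAut.conjNormal d s) =
        (fun s : S => resTo hSD π (MulAut.conjNormal g₀ s)) s := by
    intro d hd s
    have hd' : g₀ * d * g₀⁻¹ ∈ D := ‹D.Normal›.conj_mem d hd g₀
    show resTo hSD π ((MulAut.conjNormal g₀ : MulAut S) (MulAut.conjNormal d s)) = _
    have h1 : (MulAut.conjNormal g₀ : MulAut S) (MulAut.conjNormal d s) =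
        MulAut.conjNormal (g₀ * d * g₀⁻¹) ((MulAut.conjNormal g₀ : MulAut S) s) := by
      ext
      simp only [MulAut.conjNormal_apply]
      group
    rw [h1, hinv1 _ hd']
  obtain ⟨φ, ⟨hφ1, hφ2, hφ3⟩, hφ4, hφ5⟩ := exists_inv S hidx hk D
    (fun φ : IrrCharacter S => φ ∈ principalBlock M S ∧
      Odd (mu (resTo hSD π) (φ : S → ℂ)) ∧
      Even (mu (fun s : S => resTo hSD π (MulAut.conjNormal g₀ s)) (φ : S → ℂ)))
    (by
      rintro d hd φ ⟨h1, h2, h3⟩
      exact ⟨conjIrr_mem S d h1, by rwa [mu_conj_of_inv S d (hinv1 d hd)],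
        by rwa [mu_conj_of_inv S d (hinv2 d hd)]⟩)
    (by
      rintro φ ⟨h1, h2, h3⟩
      refine ⟨pw_mem (hk.sub S) h1, ?_, ?_⟩
      · rwa [mu_pow (hk.sub S) (π := resTo hSD π) (fun s => hπk ⟨s, hSD s.2⟩)]
      · rwa [mu_pow (hk.sub S) (π := fun s : S => resTo hSD π (MulAut.conjNormal g₀ s)) (fun s => by
          show resTo hSD π ((MulAut.conjNormal g₀ : MulAut S) (s ^ k)) = _
          rw [map_pow]
          exact hπk ⟨_, hSD ((MulAut.conjNormal g₀ : MulAut S) s).2⟩)])
    hodd
  have hne : conjIrr S g₀ φ ≠ φ := by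
    intro h1
    have h2 := Clifford.classInner_comp_mulEquiv (MulAut.conjNormal g₀ : MulAut S) (resTo hSD π)
      (φ : S → ℂ)
    have h3 : ((φ : S → ℂ) ∘ (MulAut.conjNormal g₀ : MulAut S)) = (φ : S → ℂ) :=
      congrArg Subtype.val h1
    rw [h3] at h2
    have h4 : mu (fun s : S => resTo hSD π (MulAut.conjNormal g₀ s)) (φ : S → ℂ) =
        mu (resTo hSD π) (φ : S → ℂ) := by
      rw [mu, mu, ← h2]
      rfl
    rw [h4] at hφ3
    exact (Int.not_even_iff_odd.2 hφ2) hφ3
  have hI : ∀ g, g ∈ D ↔ conjFn S (φ : S → ℂ) g = φ := by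
    intro g
    refine ⟨fun hg => congrArg Subtype.val (hφ4 g hg), fun hg => ?_⟩
    by_contra hgD
    have h1 : g * g₀⁻¹ ∈ D := by
      rw [Subgroup.mul_mem_iff_of_index_two hD]
      exact ⟨fun h => absurd h hgD, fun h => absurd (D.inv_mem_iff.1 h) hg₀⟩
    have h2 : conjIrr S g φ = φ := Subtype.ext hg
    have h3 := hφ4 _ h1
    apply hne
    have h4 := conjIrr_conjIrr (N := S) g₀ (g * g₀⁻¹) φ
    rw [h3, inv_mul_cancel_right, h2] at h4
    exact h4
  have hφ1' : (φ : S → ℂ) ≠ fun _ => 1 := by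
    intro h1
    apply hne
    apply Subtype.ext
    funext s
    rw [conjIrr_apply, h1]
  refine of_inertia hM S hidx hk φ hφ1 ((Twist.fixed_iff (hk.sub S).coprime φ).1 hφ5) hφ1' D hI hSD
    hπ hπk hφ2 (Or.inr ?_)
  rintro rfl
  rw [Subgroup.index_top] at hD
  exact absurd hD (by norm_num)

/-- **The conclusion from a parity, two swapped classes.** -/
theorem of_parity_pair (hM : IsPModular 2 M) (S : Subgroup G) [hS : S.Normal] [Fintype S]
    (hidx : ∃ j : ℕ, S.index = 2 ^ j) (hk : IsK G k) (D : Subgroup G) [Fintype D]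
    (hD : D.index = 2) (hSD : S ≤ D) {π : D → ℂ} (hπ : GC π) (hπk : ∀ t : D, π (t ^ k) = π t)
    (g₀ : G) (hg₀ : g₀ ∉ D)
    (hmem : ∀ φ : IrrCharacter S, Odd (mu (resTo hSD π) (φ : S → ℂ)) →
      Even (mu (fun s : S => resTo hSD π (MulAut.conjNormal g₀ s)) (φ : S → ℂ)) →
      φ ∈ principalBlock M S)
    {a b : ℤ} (ha : classInner (resTo hSD π) (resTo hSD π) = a)
    (hb : classInner (resTo hSD π) (fun s : S => resTo hSD π (MulAut.conjNormal g₀ s)) = b)
    (hodd : Odd (a + b)) : Concl M G S k := by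
  classical
  haveI := @Fintype.ofFinite (IrrCharacter S) finite_irr
  refine of_sum_pair hM S hidx hk D hD hSD hπ hπk g₀ hg₀ ?_
  have hπS : GC (resTo hSD π) := hπ.resTo hSD
  have h1 := (odd_card_iff' hπS (hπS.comp (MulAut.conjNormal g₀ : MulAut S).toMonoidHom) ha hb).2 hodd
  have h2 : (fun φ : IrrCharacter S => φ ∈ principalBlock M S ∧
      Odd (mu (resTo hSD π) (φ : S → ℂ)) ∧
      Even (mu (fun s : S => resTo hSD π (MulAut.conjNormal g₀ s)) (φ : S → ℂ))) =
      fun φ : IrrCharacter S => Odd (mu (resTo hSD π) (φ : S → ℂ)) ∧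
      Even (mu (fun s : S => resTo hSD π ((MulAut.conjNormal g₀ : MulAut S).toMonoidHom s))
        (φ : S → ℂ)) := by
    funext φ
    apply propext
    exact ⟨fun h => h.2, fun h => ⟨hmem φ h.1 h.2, h⟩⟩
  have h3 : Nat.card {φ : IrrCharacter S // φ ∈ principalBlock M S ∧
      Odd (mu (resTo hSD π) (φ : S → ℂ)) ∧
      Even (mu (fun s : S => resTo hSD π (MulAut.conjNormal g₀ s)) (φ : S → ℂ))} = _ :=
    congrArg (fun q : IrrCharacter S → Prop => Nat.card {φ // q φ}) h2
  rw [h3]
  exact h1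

end invariant

end Cfsg.Agent.H610.EB

private theorem dce_b41294bfb444 : _root_.True := by
  try have : _root_.True := by simp only [_root_.Cfsg.extendByZero.eq_1]
  exact _root_.True.intro
end

-- part: H684/EB/Base
section
set_option linter.all false
open scoped Cfsg.Agent.FastGrp

/-!
# TEAM EB (S4522, S4515): the properties `EvenB` and `EvenJ` of a simple group

`Concl M G N k` (H610/EB/Red.lean) is the conclusion of S4522: a character of even degree in the principal
2-block of `G`, fixed by `g ↦ g ^ k`, whose restriction to `N` does not contain the principal character.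

* `EvenB S`: the conclusion for all `G` with a normal subgroup `N ≅ S` of 2-power index, `C_G(N) = 1`;
* `EvenJ S`: the conclusion for all `G` with normal subgroups `N ≤ J`, `N ≅ S`, `C_G(N) = 1`, `|J : N|` odd,
  `|G : J|` a power of 2 (needed for S4515);
* `evenJ_of_out`: if `Out S` is a 2-group, then `EvenB S` implies `EvenJ S` (sporadic, alternating rows).
-/

set_option autoImplicit false

namespace Cfsg.Agent.H684.EB

open Cfsg Cfsg.Agent.H610.EB
open scoped ComplexConjugate

universe u v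

/-- The property of `S` needed for S4522. -/
def EvenB (S : Type u) [Group S] : Prop :=
  ∀ (G : Type u) [Group G] [Fintype G] (N : Subgroup G) [N.Normal] [Fintype N], Nonempty (S ≃* N) →
    Subgroup.centralizer (N : Set G) = ⊥ → (∃ j : ℕ, N.index = 2 ^ j) → ∀ k : ℕ, IsK G k →
    ∀ M : Ideal AlgInt, IsPModular 2 M → Concl M G N k

/-- The property of `S` needed for S4515. -/
def EvenJ (S : Type u) [Group S] : Prop :=
  ∀ (G : Type u) [Group G] [Fintype G] (N : Subgroup G) [N.Normal] [Fintype N], Nonempty (S ≃* N) →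
    Subgroup.centralizer (N : Set G) = ⊥ → ∀ (J : Subgroup G) [J.Normal], N ≤ J → Odd (N.relIndex J) →
    (∃ j : ℕ, J.index = 2 ^ j) → ∀ k : ℕ, IsK G k →
    ∀ M : Ideal AlgInt, IsPModular 2 M → Concl M G N k

theorem EvenB.congr {S S' : Type u} [Group S] [Group S'] (e : S ≃* S') (h : EvenB S) : EvenB S' :=
  fun G _ _ N _ _ f hC hi k hk M hM => h G N (f.map fun f => e.trans f) hC hi k hk M hM

theorem EvenJ.congr {S S' : Type u} [Group S] [Group S'] (e : S ≃* S') (h : EvenJ S) : EvenJ S' :=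
  fun G _ _ N _ _ f hC J _ hJ ho hi k hk M hM =>
    h G N (f.map fun f => e.trans f) hC J hJ ho hi k hk M hM

theorem EvenJ.evenB {S : Type u} [Group S] (h : EvenJ S) : EvenB S :=
  fun G _ _ N _ _ f hC hi k hk M hM => h G N f hC N le_rfl (by
    rw [Subgroup.relIndex_self]
    exact odd_one) hi k hk M hM

/-- If some 2-power of every automorphism of `S` is inner, `EvenB S` implies `EvenJ S`. -/
theorem evenJ_of_inner {S : Type u} [Group S]
    (h : ∀ α : S ≃* S, ∃ j : ℕ, ∃ s : S, ∀ x : S, ((α : MulAut S) ^ 2 ^ j) x = s * x * s⁻¹)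
    (hS : EvenB S) : EvenJ S := by
  intro G _ _ N hN _ f hC J hJn hJ ho hi k hk M hM
  obtain ⟨e⟩ := f
  suffices hJN : J = N by
    subst hJN
    exact hS G J ⟨e⟩ hC hi k hk M hM
  apply le_antisymm _ hJ
  intro g hg
  -- a 2-power of `g` lies in `N`
  let α : S ≃* S := (e.trans (MulAut.conjNormal g : MulAut N)).trans e.symm
  have hα : ∀ x : S, (e (α x) : G) = g * e x * g⁻¹ := by
    intro x
    show ((e (e.symm ((MulAut.conjNormal g : MulAut N) (e x))) : N) : G) = _
    rw [MulEquiv.apply_symm_apply, MulAut.conjNormal_apply]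
  have hpow : ∀ (m : ℕ) (x : S), (e (((α : MulAut S) ^ m) x) : G) = g ^ m * e x * (g ^ m)⁻¹ := by
    intro m
    induction m with
    | zero =>
      intro x
      simp
    | succ m ih =>
      intro x
      rw [pow_succ, MulAut.mul_apply, ih, show ((α : MulAut S) x) = α x from rfl, hα, pow_succ]
      group
  obtain ⟨j, s, hs⟩ := h α
  have h1 : g ^ 2 ^ j ∈ N := by
    have h2 : (e s : G)⁻¹ * g ^ 2 ^ j ∈ Subgroup.centralizer (N : Set G) := by
      rw [Subgroup.mem_centralizer_iff]
      intro n hn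
      obtain ⟨x, hx⟩ := e.surjective ⟨n, hn⟩
      have h3 := hpow (2 ^ j) x
      rw [hs x, map_mul, map_mul, map_inv, hx] at h3
      have h4 : (e s : G) * n * (e s : G)⁻¹ = g ^ 2 ^ j * n * (g ^ 2 ^ j)⁻¹ := h3
      have h5 : n = (e s : G)⁻¹ * ((e s : G) * n * (e s : G)⁻¹) * e s := by group
      rw [h4] at h5
      calc n * ((e s : G)⁻¹ * g ^ 2 ^ j)
          = (e s : G)⁻¹ * (g ^ 2 ^ j * n * (g ^ 2 ^ j)⁻¹) * e s * ((e s : G)⁻¹ * g ^ 2 ^ j) := by
            rw [← h5]
        _ = (e s : G)⁻¹ * g ^ 2 ^ j * n := by group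
    rw [hC, Subgroup.mem_bot] at h2
    rw [← inv_mul_eq_one.1 h2]
    exact (e s).2
  -- an odd power of `g` lies in `N`
  have h2 : g ^ N.relIndex J ∈ N := by
    have hNJ : (N.subgroupOf J).Normal := hN.subgroupOf J
    have h3 : (⟨g, hg⟩ : J) ^ (N.subgroupOf J).index ∈ N.subgroupOf J :=
      Subgroup.pow_index_mem _ _
    rw [Subgroup.mem_subgroupOf] at h3
    exact h3
  have h3 : Nat.Coprime (2 ^ j) (N.relIndex J) := Nat.Coprime.pow_left j (Nat.coprime_two_left.2 ho)
  have h4 : (QuotientGroup.mk g : G ⧸ N) ^ 2 ^ j = 1 := (QuotientGroup.eq_one_iff _).2 h1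
  have h5 : (QuotientGroup.mk g : G ⧸ N) ^ N.relIndex J = 1 := (QuotientGroup.eq_one_iff _).2 h2
  have h6 : orderOf (QuotientGroup.mk g : G ⧸ N) ∣ 1 := by
    rw [← h3]
    exact Nat.dvd_gcd (orderOf_dvd_of_pow_eq_one h4) (orderOf_dvd_of_pow_eq_one h5)
  exact (QuotientGroup.eq_one_iff g).1 (orderOf_eq_one_iff.1 (Nat.dvd_one.1 h6))

variable {G : Type u} [Group G]

/-- The exponent of S4522 is an involutive power map inverting the elements of odd order. -/
theorem km_of_isK [Finite G] {k : ℕ} (h : IsK G k) : H612.Base.KM G k where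
  sq := h.pow_pow
  odd := h.odd

end Cfsg.Agent.H684.EB
end

-- part: H610/EB/Crit
section
prune_inst 0x4010000
set_option linter.all false
open scoped Cfsg.Agent.FastGrp

/-!
# Criteria with local coefficients

`G` has a normal subgroup `S` of 2-power index; `k` as in S4522.

* `exists_fixed_ne`: sums over 2-group actions in characteristic 2.
* `of_local`: a power-fixed class function `Ψ` of `G` with coefficients in the local ring, such that
  the sum of the coefficients of `Ψ_S` at the even degree members of the principal block of `S` is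
  nonzero modulo `M`.
* `of_local_norm`: the form with `∑ a_θ ^ 2 - (∑ a_θ θ(1)) ^ 2` over the principal block of `S`.
-/

set_option autoImplicit false
set_option linter.unusedSectionVars false
set_option linter.style.haveILetI false

namespace Cfsg.Agent.H610.EB

open Cfsg Cfsg.Agent.Characters Cfsg.Agent.H694
open scoped ComplexConjugate
open Cfsg.Agent.Characters.Core
open Cfsg.Agent.OddOrderCharacters.NormalInduced (conjFn)
open Cfsg.Agent.OddOrderCharacters.PF9.CliffGen (resTo irr_ind)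
open Cfsg.Agent.Blocks.Local Cfsg.Agent.Blocks.Basic
open Cfsg.Agent.Blocks.Covering (conjIrr conjIrr_conjIrr conjIrr_one conjIrr_apply conjIrr_at_one)

universe u v

/-- A sum of an invariant function over a 2-group action in characteristic 2. -/
theorem exists_fixed_ne {X : Type*} [Fintype X] {P : Type*} [Group P] [MulAction P X]
    (hP : IsPGroup 2 P) (s : X → X) (hs : ∀ x, s (s x) = x) (hcomm : ∀ (g : P) x, s (g • x) = g • s x)
    {K : Type*} [Field K] [CharP K 2] (F : X → K) (hF : ∀ (g : P) x, F (g • x) = F x)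
    (hFs : ∀ x, F (s x) = F x) (hne : ∑ x, F x ≠ 0) :
    ∃ x, (∀ g : P, g • x = x) ∧ s x = x ∧ F x ≠ 0 := by
  classical
  by_contra hcon
  push Not at hcon
  apply hne
  rw [← Finset.sum_fiberwise_of_maps_to (g := F) (t := Finset.univ.image F)
    (fun x _ => Finset.mem_image_of_mem _ (Finset.mem_univ x))]
  refine Finset.sum_eq_zero fun c _ => ?_
  have h1 : ∑ x ∈ Finset.univ.filter (fun x => F x = c), F x =
      ((Finset.univ.filter (fun x => F x = c)).card : K) * c := by
    rw [Finset.sum_congr rfl (fun x hx => (Finset.mem_filter.1 hx).2), Finset.sum_const,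
      nsmul_eq_mul]
  rw [h1]
  by_cases hc : c = 0
  · rw [hc, mul_zero]
  letI : MulAction P {x : X // F x = c} :=
    { smul := fun g x => ⟨g • x.1, by rw [hF]; exact x.2⟩
      one_smul := fun x => Subtype.ext (one_smul P x.1)
      mul_smul := fun a b x => Subtype.ext (mul_smul a b x.1) }
  have h2 : ¬ Odd (Nat.card {x : X // F x = c}) := by
    intro hodd
    obtain ⟨x, hx1, hx2⟩ := exists_fixed (X := {x : X // F x = c}) (P := P) hP
      (fun x => ⟨s x.1, by rw [hFs]; exact x.2⟩) (fun x => Subtype.ext (hs x.1))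
      (fun g x => Subtype.ext (hcomm g x.1)) hodd
    have h3 := hcon x.1 (fun g => congrArg Subtype.val (hx1 g)) (congrArg Subtype.val hx2)
    exact hc (x.2.symm.trans h3)
  rw [Nat.not_odd_iff_even, Nat.card_eq_fintype_card, Fintype.card_subtype, even_iff_two_dvd] at h2
  rw [(CharP.cast_eq_zero_iff K 2 _).2 h2, zero_mul]

variable {G : Type u} [Group G] [Fintype G] {M : Ideal AlgInt} {k : ℕ}

/-- A twist of both arguments. -/
theorem classInner_pw (hk : IsK G k) {π : G → ℂ} (hπ : ∀ g, π (g ^ k) = π g) (χ : IrrCharacter G) :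
    classInner π (Twist.pw hk.coprime χ : G → ℂ) = classInner π (χ : G → ℂ) := by
  have h := Twist.classInner_pow hk.coprime π (χ : G → ℂ)
  rw [← h]
  congr 1
  funext g
  exact (hπ g).symm

theorem classInner_conj_of_inv (S : Subgroup G) [S.Normal] [Fintype S] {F : S → ℂ} (d : G)
    (hF : ∀ s : S, F (MulAut.conjNormal d s) = F s) (φ : IrrCharacter S) :
    classInner F (conjIrr S d φ : S → ℂ) = classInner F (φ : S → ℂ) := by
  have h1 := Clifford.classInner_comp_mulEquiv (MulAut.conjNormal d : MulAut S) F (φ : S → ℂ)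
  have h2 : (F ∘ (MulAut.conjNormal d : MulAut S)) = F := funext hF
  rw [h2] at h1
  rw [← h1]
  rfl

/-- A fixed constituent, with a coefficient nonzero modulo `M`, of a fixed class function, over a
fixed character of a subgroup, with odd multiplicity. -/
theorem exists_odd_local (hM : IsPModular 2 M) (hk : IsK G k) (S : Subgroup G) [Fintype S]
    {φ : S → ℂ} (hφ : IsIrrCharacter S φ) (hφk : ∀ s : S, φ (s ^ k) = φ s) {Ψ : G → ℂ}
    (hcf : IsClassFunction G Ψ)
    (hint : ∀ χ : IrrCharacter G, MemLocalRing M (classInner Ψ (χ : G → ℂ)))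
    (hΨk : ∀ g, Ψ (g ^ k) = Ψ g)
    (hne : ¬ MemLocalIdeal M (classInner (fun s : S => Ψ s) φ)) :
    ∃ χ : IrrCharacter G, (∀ g, (χ : G → ℂ) (g ^ k) = (χ : G → ℂ) g) ∧
      ¬ MemLocalIdeal M (classInner Ψ (χ : G → ℂ)) ∧
      Odd (mu (fun s : S => (χ : G → ℂ) s) φ) := by
  classical
  have hprime : M.IsPrime := isPrime_of_isPModular hM
  haveI := charP_resField hM
  haveI := @Fintype.ofFinite (IrrCharacter G) finite_irr
  have h1 : (fun s : S => Ψ s) =
      ∑ χ : IrrCharacter G, classInner Ψ (χ : G → ℂ) • (fun s : S => (χ : G → ℂ) s) := by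
    funext s
    have h2 := congrFun (classFunction_eq_sum hcf) (s : G)
    rw [h2, Finset.sum_apply, Finset.sum_apply]
    rfl
  have hmu : ∀ χ : IrrCharacter G, classInner (fun s : S => (χ : G → ℂ) s) φ =
      (mu (fun s : S => (χ : G → ℂ) s) φ : ℂ) := fun χ =>
    irr_mu_spec (isCharacter_comp S.subtype (isIrr_isCharacter χ.2)) hφ
  have h2 : classInner (fun s : S => Ψ s) φ = ∑ χ : IrrCharacter G,
      classInner Ψ (χ : G → ℂ) * (mu (fun s : S => (χ : G → ℂ) s) φ : ℂ) := by
    rw [h1, classInner_sum_left]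
    refine Finset.sum_congr rfl fun χ _ => ?_
    rw [classInner_smul_left, hmu]
  have hmem : ∀ χ : IrrCharacter G, MemLocalRing M
      (classInner Ψ (χ : G → ℂ) * (mu (fun s : S => (χ : G → ℂ) s) φ : ℂ)) := fun χ =>
    memLocalRing_mul (hint χ) (memLocalRing_intCast _)
  have h3 : ∑ χ : IrrCharacter G, redC M
      (classInner Ψ (χ : G → ℂ) * (mu (fun s : S => (χ : G → ℂ) s) φ : ℂ)) ≠ 0 := by
    rw [← redC_sum (fun χ _ => hmem χ), ← h2]
    intro h
    apply hne
    exact (redC_eq_zero_iff (by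
      rw [h2]
      exact memLocalRing_sum fun χ _ => hmem χ)).1 h
  letI : MulAction Unit (IrrCharacter G) :=
    { smul := fun _ χ => χ
      one_smul := fun _ => rfl
      mul_smul := fun _ _ _ => rfl }
  obtain ⟨χ, -, hχ1, hχ2⟩ := exists_fixed_ne (P := Unit) (X := IrrCharacter G)
    (fun _ => ⟨0, Subsingleton.elim _ _⟩) (Twist.pw hk.coprime) (pw_pw hk) (fun _ _ => rfl) _
    (fun _ _ => rfl) (by
      intro χ
      congr 1
      rw [classInner_pw hk hΨk]
      congr 2
      have h4 := classInner_pw (hk.sub S) (π := fun s : S => (χ : G → ℂ) s)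
      have h5 := Twist.classInner_pow (Twist.coprime_subgroup hk.coprime S)
        (fun x : S => (χ : G → ℂ) x) φ
      rw [mu, mu]
      congr 2
      have h6 : (fun x : S => (Twist.pw hk.coprime χ : G → ℂ) x) =
          fun x : S => (fun x : S => (χ : G → ℂ) x) (x ^ k) := by
        funext x
        rw [Twist.pw_apply]
        rfl
      have h7 : (fun g : S => φ (g ^ k)) = φ := funext hφk
      rw [h6]
      rw [h7] at h5
      exact h5) h3
  refine ⟨χ, (Twist.fixed_iff hk.coprime χ).1 hχ1, ?_, ?_⟩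
  · intro h
    apply hχ2
    rw [redC_mul (hint χ) (memLocalRing_intCast _), (redC_eq_zero_iff (hint χ)).2 h, zero_mul]
  · rw [← Int.not_even_iff_odd, even_iff_two_dvd]
    intro h
    apply hχ2
    rw [redC_mul (hint χ) (memLocalRing_intCast _), redC_intCast,
      (CharP.intCast_eq_zero_iff (ResField M) 2 _).2 (by exact_mod_cast h), mul_zero]

/-- A character of `S` fixed by a Sylow 2-subgroup is fixed by `G`. -/
theorem conjIrr_of_sylow (S : Subgroup G) [hS : S.Normal] (hidx : ∃ j : ℕ, S.index = 2 ^ j)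
    [Fact (Nat.Prime 2)] (P : Sylow 2 G) {φ : IrrCharacter S}
    (hP : ∀ d ∈ (P : Subgroup G), conjIrr S d φ = φ) (d : G) : conjIrr S d φ = φ := by
  have htop : (P : Subgroup G) ⊔ S = ⊤ := by
    rw [← Subgroup.index_eq_one]
    obtain ⟨j, hj⟩ := hidx
    have h1 : ((P : Subgroup G) ⊔ S).index ∣ 2 ^ j := by
      rw [← hj]
      exact Subgroup.index_dvd_of_le le_sup_right
    have h2 : ((P : Subgroup G) ⊔ S).index ∣ (P : Subgroup G).index :=
      Subgroup.index_dvd_of_le le_sup_left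
    have h3 : ¬ 2 ∣ (P : Subgroup G).index := P.not_dvd_index
    have h4 : Nat.Coprime (2 ^ j) (P : Subgroup G).index :=
      Nat.Coprime.pow_left _ ((Nat.Prime.coprime_iff_not_dvd Nat.prime_two).2 h3)
    exact Nat.eq_one_of_dvd_coprimes h4 h1 h2
  have h1 : d ∈ (P : Subgroup G) ⊔ S := by
    rw [htop]
    exact Subgroup.mem_top _
  obtain ⟨x, hx, s, hs, rfl⟩ := Subgroup.mem_sup_of_normal_right.1 h1
  rw [← conjIrr_conjIrr S s x, hP x hx, conjIrr_mem_self S hs]

/-- The action of a subgroup on the characters of a normal subgroup. -/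
@[reducible] noncomputable def irrAct (S : Subgroup G) [S.Normal] (P : Subgroup G) :
    MulAction P (IrrCharacter S) where
  smul d φ := conjIrr S ((d⁻¹ : P) : G) φ
  one_smul φ := by
    show conjIrr S (((1 : P)⁻¹ : P) : G) φ = φ
    rw [inv_one]
    exact conjIrr_one S φ
  mul_smul a b φ := by
    show conjIrr S (((a * b)⁻¹ : P) : G) φ =
      conjIrr S ((a⁻¹ : P) : G) (conjIrr S ((b⁻¹ : P) : G) φ)
    rw [conjIrr_conjIrr, mul_inv_rev]
    rfl

/-- **The conclusion from local coefficients.** -/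
theorem of_local (hM : IsPModular 2 M) (S : Subgroup G) [hS : S.Normal] [Fintype S]
    [Fintype (IrrCharacter S)]
    (hidx : ∃ j : ℕ, S.index = 2 ^ j) (hk : IsK G k) {Ψ : G → ℂ} (hcf : IsClassFunction G Ψ)
    (hint : ∀ χ : IrrCharacter G, MemLocalRing M (classInner Ψ (χ : G → ℂ)))
    (hΨk : ∀ g, Ψ (g ^ k) = Ψ g)
    (hne : ¬ MemLocalIdeal M (∑ φ : IrrCharacter S,
      @ite _ (φ ∈ principalBlock M S ∧ Even (charDegree (φ : S → ℂ))) (Classical.dec _)
        (classInner (fun s : S => Ψ s) (φ : S → ℂ)) 0)) : Concl M G S k := by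
  classical
  have hprime : M.IsPrime := isPrime_of_isPModular hM
  haveI := charP_resField hM
  haveI : Fact (Nat.Prime 2) := ⟨Nat.prime_two⟩
  haveI := @Fintype.ofFinite (IrrCharacter G) finite_irr
  have hcomp : (fun s : S => Ψ s) =
      ∑ χ : IrrCharacter G, classInner Ψ (χ : G → ℂ) • (fun s : S => (χ : G → ℂ) s) := by
    funext s
    have h2 := congrFun (classFunction_eq_sum hcf) (s : G)
    rw [h2, Finset.sum_apply, Finset.sum_apply]
    rfl
  -- the coefficients of the restriction are local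
  have hres : ∀ φ : IrrCharacter S, MemLocalRing M (classInner (fun s : S => Ψ s) (φ : S → ℂ)) := by
    intro φ
    rw [hcomp, classInner_sum_left]
    refine memLocalRing_sum fun χ _ => ?_
    rw [classInner_smul_left]
    obtain ⟨n, hn⟩ := classInner_isNat
      (isCharacter_comp S.subtype (isIrr_isCharacter χ.2)) (isIrr_isCharacter φ.2)
    have hn' : classInner (fun s : S => (χ : G → ℂ) s) (φ : S → ℂ) = n := hn
    rw [hn']
    exact memLocalRing_mul (hint χ) (memLocalRing_natCast _)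
  have hmemite : ∀ φ : IrrCharacter S, MemLocalRing M
      (@ite _ (φ ∈ principalBlock M S ∧ Even (charDegree (φ : S → ℂ))) (Classical.dec _)
        (classInner (fun s : S => Ψ s) (φ : S → ℂ)) 0) := by
    intro φ
    split_ifs
    · exact hres φ
    · exact memLocalRing_zero
  set F : IrrCharacter S → ResField M := fun φ => redC M
    (@ite _ (φ ∈ principalBlock M S ∧ Even (charDegree (φ : S → ℂ))) (Classical.dec _)
        (classInner (fun s : S => Ψ s) (φ : S → ℂ)) 0) with hF
  have h1 : ∑ φ, F φ ≠ 0 := by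
    intro h2
    apply hne
    refine (redC_eq_zero_iff (memLocalRing_sum fun φ _ => hmemite φ)).1 ?_
    rw [redC_sum (fun φ _ => hmemite φ), ← h2]
  have hFcongr : ∀ φ ψ : IrrCharacter S,
      ((ψ ∈ principalBlock M S ∧ Even (charDegree (ψ : S → ℂ))) ↔
        (φ ∈ principalBlock M S ∧ Even (charDegree (φ : S → ℂ)))) →
      classInner (fun s : S => Ψ s) (ψ : S → ℂ) = classInner (fun s : S => Ψ s) (φ : S → ℂ) →
      F ψ = F φ := by
    intro φ ψ h2 h3
    show redC M _ = redC M _
    rw [h3]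
    congr 1
    by_cases h4 : φ ∈ principalBlock M S ∧ Even (charDegree (φ : S → ℂ))
    · rw [if_pos h4, if_pos (h2.2 h4)]
    · rw [if_neg h4, if_neg (fun h => h4 (h2.1 h))]
  obtain ⟨P⟩ : Nonempty (Sylow 2 G) := inferInstance
  letI := irrAct S (P : Subgroup G)
  obtain ⟨φ, hφ1, hφ2, hφ3⟩ := exists_fixed_ne (X := IrrCharacter S) (P := (P : Subgroup G))
    P.isPGroup' (Twist.pw (hk.sub S).coprime) (pw_pw (hk.sub S))
    (fun g φ => (conjIrr_pw S hk _ φ).symm) F
    (by
      intro g φ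
      show F (conjIrr S ((g⁻¹ : (P : Subgroup G)) : G) φ) = F φ
      refine hFcongr _ _ ⟨fun h => ?_, fun h => ?_⟩ ?_
      · refine ⟨?_, ?_⟩
        · have h2 := conjIrr_mem S ((g : (P : Subgroup G)) : G) h.1
          rw [conjIrr_conjIrr, ← Subgroup.coe_mul, inv_mul_cancel, Subgroup.coe_one,
            conjIrr_one] at h2
          exact h2
        · rw [← charDegree_conjIrr S ((g⁻¹ : (P : Subgroup G)) : G)]
          exact h.2
      · exact ⟨conjIrr_mem S _ h.1, by rw [charDegree_conjIrr]; exact h.2⟩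
      · exact classInner_conj_of_inv S _ (fun s => hcf (s : G) _) φ)
    (by
      intro φ
      refine hFcongr _ _ ⟨fun h => ?_, fun h => ?_⟩ ?_
      · refine ⟨?_, ?_⟩
        · have h2 := pw_mem (hk.sub S) h.1
          rwa [pw_pw (hk.sub S)] at h2
        · rw [← charDegree_pw (hk.sub S)]
          exact h.2
      · exact ⟨pw_mem (hk.sub S) h.1, by rw [charDegree_pw (hk.sub S)]; exact h.2⟩
      · exact classInner_pw (hk.sub S) (fun s => by
          show Ψ ((s ^ k : S) : G) = Ψ s
          rw [Subgroup.coe_pow, hΨk]) φ) h1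
  -- `φ`
  have hin : φ ∈ principalBlock M S ∧ Even (charDegree (φ : S → ℂ)) := by
    by_contra h
    apply hφ3
    show redC M _ = 0
    rw [if_neg h, redC_zero]
  have hcoef : ¬ MemLocalIdeal M (classInner (fun s : S => Ψ s) (φ : S → ℂ)) := by
    intro h
    apply hφ3
    show redC M _ = 0
    rw [if_pos hin]
    exact (redC_eq_zero_iff (hres φ)).2 h
  have hφG : ∀ d : G, conjIrr S d φ = φ := by
    refine conjIrr_of_sylow S hidx P fun d hd => ?_
    have h2 : conjIrr S (((⟨d, hd⟩ : (P : Subgroup G))⁻¹⁻¹ : (P : Subgroup G)) : G) φ = φ :=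
      hφ1 (⟨d, hd⟩ : (P : Subgroup G))⁻¹
    rwa [inv_inv] at h2
  have hφk := (Twist.fixed_iff (hk.sub S).coprime φ).1 hφ2
  obtain ⟨χ, hχk, -, hχodd⟩ := exists_odd_local hM hk S φ.2 hφk hcf hint hΨk hcoef
  haveI : Fintype (⊤ : Subgroup G) := Fintype.ofFinite _
  have hk1 : (φ : S → ℂ) ≠ fun _ => 1 := by
    intro h1
    have h2 := hin.2
    rw [charDegree_def, h1] at h2
    simp at h2
  exact of_inertia hM S hidx hk φ hin.1 hφk hk1 ⊤
    (fun g => ⟨fun _ => congrArg Subtype.val (hφG g), fun _ => Subgroup.mem_top g⟩)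
    le_top (π := fun t : (⊤ : Subgroup G) => (χ : G → ℂ) t)
    ((GC.of_irr χ.2).comp (Subgroup.subtype ⊤))
    (fun t => by
      show (χ : G → ℂ) ((t ^ k : (⊤ : Subgroup G)) : G) = (χ : G → ℂ) t
      rw [Subgroup.coe_pow, hχk]) hχodd (Or.inl hin.2)

/-- **The form with norms.** -/
theorem of_local_norm (hM : IsPModular 2 M) (S : Subgroup G) [hS : S.Normal] [Fintype S]
    [Fintype (IrrCharacter S)]
    (hidx : ∃ j : ℕ, S.index = 2 ^ j) (hk : IsK G k) {Ψ : G → ℂ} (hcf : IsClassFunction G Ψ)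
    (hint : ∀ χ : IrrCharacter G, MemLocalRing M (classInner Ψ (χ : G → ℂ)))
    (hΨk : ∀ g, Ψ (g ^ k) = Ψ g)
    (hne : ¬ MemLocalIdeal M ((∑ φ : IrrCharacter S,
      @ite _ (φ ∈ principalBlock M S) (Classical.dec _)
        (classInner (fun s : S => Ψ s) (φ : S → ℂ) ^ 2) 0) -
      (∑ φ : IrrCharacter S, @ite _ (φ ∈ principalBlock M S) (Classical.dec _)
        (classInner (fun s : S => Ψ s) (φ : S → ℂ) * (φ : S → ℂ) 1) 0) ^ 2)) : Concl M G S k := by
  classical
  have hprime : M.IsPrime := isPrime_of_isPModular hM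
  haveI := charP_resField hM
  haveI : Fact (Nat.Prime 2) := ⟨Nat.prime_two⟩
  haveI := @Fintype.ofFinite (IrrCharacter G) finite_irr
  have hcomp : (fun s : S => Ψ s) =
      ∑ χ : IrrCharacter G, classInner Ψ (χ : G → ℂ) • (fun s : S => (χ : G → ℂ) s) := by
    funext s
    have h2 := congrFun (classFunction_eq_sum hcf) (s : G)
    rw [h2, Finset.sum_apply, Finset.sum_apply]
    rfl
  have hres : ∀ φ : IrrCharacter S, MemLocalRing M (classInner (fun s : S => Ψ s) (φ : S → ℂ)) := by
    intro φ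
    rw [hcomp, classInner_sum_left]
    refine memLocalRing_sum fun χ _ => ?_
    rw [classInner_smul_left]
    obtain ⟨n, hn⟩ := classInner_isNat
      (isCharacter_comp S.subtype (isIrr_isCharacter χ.2)) (isIrr_isCharacter φ.2)
    have hn' : classInner (fun s : S => (χ : G → ℂ) s) (φ : S → ℂ) = n := hn
    rw [hn']
    exact memLocalRing_mul (hint χ) (memLocalRing_natCast _)
  refine of_local hM S hidx hk hcf hint hΨk fun hmem => hne ?_
  -- everything modulo `M`
  set a : IrrCharacter S → ResField M := fun φ =>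
    redC M (classInner (fun s : S => Ψ s) (φ : S → ℂ)) with ha
  have hm1 : ∀ φ : IrrCharacter S, MemLocalRing M
      (@ite _ (φ ∈ principalBlock M S ∧ Even (charDegree (φ : S → ℂ))) (Classical.dec _)
        (classInner (fun s : S => Ψ s) (φ : S → ℂ)) 0) := by
    intro φ
    split_ifs
    · exact hres φ
    · exact memLocalRing_zero
  have hm2 : ∀ φ : IrrCharacter S, MemLocalRing M (@ite _ (φ ∈ principalBlock M S)
      (Classical.dec _) (classInner (fun s : S => Ψ s) (φ : S → ℂ) ^ 2) 0) := by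
    intro φ
    split_ifs
    · exact memLocalRing_pow (hres φ) 2
    · exact memLocalRing_zero
  have hm3 : ∀ φ : IrrCharacter S, MemLocalRing M (@ite _ (φ ∈ principalBlock M S)
      (Classical.dec _) (classInner (fun s : S => Ψ s) (φ : S → ℂ) * (φ : S → ℂ) 1) 0) := by
    intro φ
    split_ifs
    · refine memLocalRing_mul (hres φ) ?_
      rw [irr_one_eq_charDegree φ.2]
      exact memLocalRing_natCast _
    · exact memLocalRing_zero
  have h1 := (redC_eq_zero_iff (memLocalRing_sum fun φ _ => hm1 φ)).2 hmem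
  rw [redC_sum fun φ _ => hm1 φ] at h1
  have hs2 := memLocalRing_sum (M := M) (s := Finset.univ) fun φ _ => hm2 φ
  have hs3 := memLocalRing_sum (M := M) (s := Finset.univ) fun φ _ => hm3 φ
  refine (redC_eq_zero_iff (memLocalRing_sub hs2 (memLocalRing_pow hs3 2))).1 ?_
  rw [redC_sub hs2 (memLocalRing_pow hs3 2), redC_pow hs3, redC_sum (fun φ _ => hm2 φ),
    redC_sum (fun φ _ => hm3 φ)]
  have e1 : ∀ φ : IrrCharacter S, redC M (@ite _ (φ ∈ principalBlock M S)
      (Classical.dec _) (classInner (fun s : S => Ψ s) (φ : S → ℂ) ^ 2) 0) =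
      (if φ ∈ principalBlock M S then a φ else 0) ^ 2 := by
    intro φ
    by_cases h : φ ∈ principalBlock M S
    · rw [if_pos h, if_pos h, redC_pow (hres φ)]
    · rw [if_neg h, if_neg h, redC_zero]
      simp
  have e2 : ∀ φ : IrrCharacter S, redC M (@ite _ (φ ∈ principalBlock M S)
      (Classical.dec _) (classInner (fun s : S => Ψ s) (φ : S → ℂ) * (φ : S → ℂ) 1) 0) =
      (if φ ∈ principalBlock M S then a φ else 0) * (charDegree (φ : S → ℂ) : ResField M) := by
    intro φ
    by_cases h : φ ∈ principalBlock M S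
    · rw [if_pos h, if_pos h, irr_one_eq_charDegree φ.2, redC_mul (hres φ) (memLocalRing_natCast _),
        redC_natCast]
    · rw [if_neg h, if_neg h, redC_zero, zero_mul]
  have e3 : ∀ φ : IrrCharacter S, redC M
      (@ite _ (φ ∈ principalBlock M S ∧ Even (charDegree (φ : S → ℂ))) (Classical.dec _)
        (classInner (fun s : S => Ψ s) (φ : S → ℂ)) 0) =
      (if φ ∈ principalBlock M S then a φ else 0) -
      (if φ ∈ principalBlock M S then a φ else 0) * (charDegree (φ : S → ℂ) : ResField M) := by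
    intro φ
    by_cases h : φ ∈ principalBlock M S
    · rcases Nat.even_or_odd (charDegree (φ : S → ℂ)) with h5 | h5
      · rw [if_pos ⟨h, h5⟩, if_pos h,
          (CharP.cast_eq_zero_iff (ResField M) 2 _).2 (even_iff_two_dvd.1 h5), mul_zero, sub_zero]
      · rw [if_neg (fun h6 => (Nat.not_even_iff_odd.2 h5) h6.2), if_pos h, redC_zero]
        obtain ⟨m, hm⟩ := h5
        rw [hm]
        push_cast
        rw [CharTwo.two_eq_zero, zero_mul, zero_add, mul_one, sub_self]
    · rw [if_neg h, if_neg (fun h6 => h h6.1), redC_zero, zero_mul, sub_zero]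
  rw [Finset.sum_congr rfl fun φ _ => e3 φ, Finset.sum_sub_distrib, sub_eq_zero] at h1
  rw [Finset.sum_congr rfl fun φ _ => e1 φ, Finset.sum_congr rfl fun φ _ => e2 φ, ← h1,
    sub_eq_zero]
  exact (sum_pow_char 2 _ _).symm

end Cfsg.Agent.H610.EB
end

-- part: H610/EB/DRed
section
prune_inst 0x4010000
set_option linter.all false
open scoped Cfsg.Agent.FastGrp

/-!
# The reduction for sets of subgroups

`S` is a normal subgroup of 2-power index of `G`.

* `permS 𝒳`: the permutation character of `S` on a set of subgroups.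
* `concl_of_set`: `𝒳` is a `G`-stable set of subgroups of `S` with `|𝒳| + #(𝒳 × 𝒳 / S)` odd, whose
  permutation character has its fixed constituents of even degree and odd multiplicity in the
  principal block.
* `concl_of_phi`: `φ` is a `G`-invariant fixed character of even degree in the principal block, of
  odd multiplicity in `permS 𝒳`.
* `concl_of_two`: two classes permuted by `G`.
-/

set_option autoImplicit false
set_option linter.unusedSectionVars false
set_option linter.style.haveILetI false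

namespace Cfsg.Agent.H610.EB

open Cfsg Cfsg.Agent.Characters Cfsg.Agent.H694
open scoped ComplexConjugate
open Cfsg.Agent.Characters.Core
open Cfsg.Agent.OddOrderCharacters.NormalInduced (conjFn)
open Cfsg.Agent.OddOrderCharacters.PF9.CliffGen (resTo irr_ind)
open Cfsg.Agent.Blocks.Local Cfsg.Agent.Blocks.Basic
open Cfsg.Agent.Blocks.Covering (conjIrr conjIrr_conjIrr conjIrr_one conjIrr_apply conjIrr_at_one)

universe u v

/-- The permutation character of `S` on a set of subgroups. -/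
noncomputable def permS {S : Type*} [Group S] (𝒳 : Set (Subgroup S)) : S → ℂ := fun s =>
  (Nat.card {H : Subgroup S // H ∈ 𝒳 ∧ H.map (MulAut.conj s).toMonoidHom = H} : ℂ)

/-- The conjugation action on an invariant set of subgroups. -/
@[reducible] def actS {S : Type*} [Group S] (𝒳 : Set (Subgroup S))
    (h : ∀ g : S, ∀ H ∈ 𝒳, H.map (MulAut.conj g).toMonoidHom ∈ 𝒳) : MulAction S 𝒳 where
  smul g H := ⟨(H : Subgroup S).map (MulAut.conj g).toMonoidHom, h _ _ H.2⟩
  one_smul _ := Subtype.ext (Cfsg.Agent.H694.map_conj_one _)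
  mul_smul g t _ := Subtype.ext (map_conj_conj t g _).symm

theorem permS_eq {S : Type*} [Group S] (𝒳 : Set (Subgroup S))
    (h : ∀ g : S, ∀ H ∈ 𝒳, H.map (MulAut.conj g).toMonoidHom ∈ 𝒳) :
    permS 𝒳 = (letI := actS 𝒳 h; permC S 𝒳) := by
  funext s
  letI := actS 𝒳 h
  show (_ : ℂ) = (Nat.card (MulAction.fixedBy 𝒳 s) : ℂ)
  rw [permS]
  congr 1
  exact Nat.card_congr
    { toFun := fun H => ⟨⟨H.1, H.2.1⟩, Subtype.ext H.2.2⟩
      invFun := fun H => ⟨H.1.1, H.1.2, congrArg Subtype.val H.2⟩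
      left_inv := fun H => rfl
      right_inv := fun H => rfl }

theorem permS_one {S : Type*} [Group S] (𝒳 : Set (Subgroup S)) : permS 𝒳 1 = (Nat.card 𝒳 : ℂ) := by
  rw [permS]
  congr 1
  exact Nat.card_congr
    { toFun := fun H => ⟨H.1, H.2.1⟩
      invFun := fun H => ⟨H.1, H.2, Cfsg.Agent.H694.map_conj_one _⟩
      left_inv := fun H => rfl
      right_inv := fun H => rfl }

/-- The number of orbits on pairs is the norm. -/
theorem classInner_permS {S : Type*} [Group S] [Fintype S] (𝒳 𝒴 : Set (Subgroup S))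
    (hX : ∀ g : S, ∀ H ∈ 𝒳, H.map (MulAut.conj g).toMonoidHom ∈ 𝒳)
    (hY : ∀ g : S, ∀ H ∈ 𝒴, H.map (MulAut.conj g).toMonoidHom ∈ 𝒴) :
    classInner (permS 𝒳) (permS 𝒴) = (Nat.card (Quotient (pairRel 𝒳 𝒴)) : ℂ) := by
  haveI : Finite 𝒳 := Subtype.finite
  haveI : Finite 𝒴 := Subtype.finite
  rw [permS_eq 𝒳 hX, permS_eq 𝒴 hY]
  letI := actS 𝒳 hX
  letI := actS 𝒴 hY
  show classInner (permC S 𝒳) (permC S 𝒴) = _
  rw [classInner_permC]
  have h1 : Nat.card (MulAction.orbitRel.Quotient S (𝒳 × 𝒴)) = Nat.card (Quotient (pairRel 𝒳 𝒴)) := by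
    refine Nat.card_congr (Quotient.congr (Equiv.refl _) fun x y => ?_)
    rw [Equiv.refl_apply, Equiv.refl_apply]
    have h4 : (MulAction.orbitRel S (𝒳 × 𝒴)) x y ↔ (pairRel 𝒳 𝒴) x y := by
      rw [MulAction.orbitRel_apply]
      constructor
      · rintro ⟨n, hn⟩
        apply (pairRel 𝒳 𝒴).symm
        refine ⟨n, ?_, ?_⟩
        · rw [← hn]
          rfl
        · rw [← hn]
          rfl
      · intro h5
        obtain ⟨g, h6, h7⟩ := (pairRel 𝒳 𝒴).symm h5
        exact ⟨g, Prod.ext (Subtype.ext h6) (Subtype.ext h7)⟩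
    exact h4
  rw [h1]

/-- Fixed points of the power map. -/
theorem fixedBy_pow {G : Type*} [Group G] [Finite G] {k : ℕ} (hk : IsK G k) (X : Type*)
    [MulAction G X] (g : G) : MulAction.fixedBy X (g ^ k) = MulAction.fixedBy X g := by
  ext x
  rw [MulAction.mem_fixedBy, MulAction.mem_fixedBy]
  have h1 : ∀ (t : G) (m : ℕ), t • x = x → t ^ m • x = x := by
    intro t m ht
    induction m with
    | zero => rw [pow_zero, one_smul]
    | succ m ih => rw [pow_succ, mul_smul, ht, ih]
  constructor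
  · intro h
    have h2 := h1 (g ^ k) k h
    rwa [hk.pow_pow] at h2
  · exact h1 g k

section core

variable {G : Type u} [Group G] [Fintype G] {M : Ideal AlgInt} {k : ℕ}

/-- The permutation character of `G` restricted to `S`. -/
theorem permC_restrict (S : Subgroup G) [hS : S.Normal] (𝒳 : Set (Subgroup S))
    (hX : ∀ g : G, ∀ H ∈ 𝒳, cmap S g H ∈ 𝒳) (s : S) :
    (letI := actSet S 𝒳 hX; permC G 𝒳 (s : G)) = permS 𝒳 s := by
  letI := actSet S 𝒳 hX
  show (Nat.card (MulAction.fixedBy 𝒳 (s : G)) : ℂ) = _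
  rw [permS]
  congr 1
  exact Nat.card_congr
    { toFun := fun H => ⟨H.1.1, H.1.2, by
        have h1 : cmap S (s : G) H.1.1 = H.1.1 := congrArg Subtype.val H.2
        rwa [cmap_coe] at h1⟩
      invFun := fun H => ⟨⟨H.1, H.2.1⟩, Subtype.ext (by
        show cmap S (s : G) H.1 = H.1
        rw [cmap_coe]
        exact H.2.2)⟩
      left_inv := fun H => rfl
      right_inv := fun H => rfl }

/-- **The conclusion from an invariant character.** -/
theorem concl_of_phi (hM : IsPModular 2 M) (S : Subgroup G) [hS : S.Normal] [Fintype S]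
    (hidx : ∃ j : ℕ, S.index = 2 ^ j) (hk : IsK G k) (𝒳 : Set (Subgroup S))
    (hX : ∀ g : G, ∀ H ∈ 𝒳, cmap S g H ∈ 𝒳) (φ : IrrCharacter S) (hφ : φ ∈ principalBlock M S)
    (hφk : ∀ s : S, (φ : S → ℂ) (s ^ k) = (φ : S → ℂ) s) (hφG : ∀ g : G, conjIrr S g φ = φ)
    (heven : Even (charDegree (φ : S → ℂ))) (hodd : Odd (mu (permS 𝒳) (φ : S → ℂ))) :
    Concl M G S k := by
  classical
  letI := actSet S 𝒳 hX
  haveI : Finite 𝒳 := Subtype.finite
  haveI : Fintype (⊤ : Subgroup G) := Fintype.ofFinite _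
  have hk1 : (φ : S → ℂ) ≠ fun _ => 1 := by
    intro h1
    rw [charDegree_def, h1] at heven
    simp at heven
  have hπ : GC (permC G 𝒳) := GC.of_rchar (rchar_perm 𝒳)
  refine of_inertia hM S hidx hk φ hφ hφk hk1 ⊤
    (fun g => ⟨fun _ => congrArg Subtype.val (hφG g), fun _ => Subgroup.mem_top g⟩)
    le_top (π := fun t : (⊤ : Subgroup G) => permC G 𝒳 (t : G)) (hπ.comp (Subgroup.subtype ⊤))
    (fun t => by
      show (Nat.card (MulAction.fixedBy 𝒳 ((t ^ k : (⊤ : Subgroup G)) : G)) : ℂ) = _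
      rw [Subgroup.coe_pow, fixedBy_pow hk]
      rfl) ?_ (Or.inl heven)
  have h1 : resTo (le_top : S ≤ ⊤) (fun t : (⊤ : Subgroup G) => permC G 𝒳 (t : G)) = permS 𝒳 := by
    funext s
    exact permC_restrict S 𝒳 hX s
  rw [h1]
  exact hodd

/-- **The conclusion from a set of subgroups.** -/
theorem concl_of_set (hM : IsPModular 2 M) (S : Subgroup G) [hS : S.Normal] [Fintype S]
    (hidx : ∃ j : ℕ, S.index = 2 ^ j) (hk : IsK G k) (𝒳 : Set (Subgroup S))
    (hX : ∀ g : G, ∀ H ∈ 𝒳, cmap S g H ∈ 𝒳)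
    (hmem : ∀ φ : IrrCharacter S, (∀ s : S, (φ : S → ℂ) (s ^ k) = (φ : S → ℂ) s) →
      Even (charDegree (φ : S → ℂ)) → Odd (mu (permS 𝒳) (φ : S → ℂ)) → φ ∈ principalBlock M S)
    (hodd : Odd (Nat.card 𝒳 + Nat.card (Quotient (pairRel 𝒳 𝒳)))) : Concl M G S k := by
  classical
  haveI := @Fintype.ofFinite (IrrCharacter S) finite_irr
  haveI : Finite 𝒳 := Subtype.finite
  have hXS : ∀ g : S, ∀ H ∈ 𝒳, H.map (MulAut.conj g).toMonoidHom ∈ 𝒳 := by
    intro g H hH
    rw [← cmap_coe]
    exact hX _ _ hH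
  have hGC : GC (permS 𝒳) := by
    letI := actS 𝒳 hXS
    have h1 : GC (permC S 𝒳) := GC.of_rchar (rchar_perm 𝒳)
    rwa [← permS_eq 𝒳 hXS] at h1
  have hcount := (odd_card_iff hGC (a := (Nat.card (Quotient (pairRel 𝒳 𝒳)) : ℤ))
    (b := (Nat.card 𝒳 : ℤ)) (by rw [classInner_permS 𝒳 𝒳 hXS hXS]; push_cast; rfl)
    (by rw [permS_one]; push_cast; rfl)).2 (by
      rw [add_comm]
      exact_mod_cast hodd)
  have hXinv : ∀ (d : G) (s : S), permS 𝒳 (MulAut.conjNormal d s) = permS 𝒳 s := by
    intro d s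
    letI := actSet S 𝒳 hX
    rw [← permC_restrict S 𝒳 hX, ← permC_restrict S 𝒳 hX]
    have h1 := (GC.of_rchar (rchar_perm (G := G) 𝒳)).cf (s : G) d
    rw [MulAut.conjNormal_apply]
    exact h1
  have hXk : ∀ s : S, permS 𝒳 (s ^ k) = permS 𝒳 s := by
    intro s
    letI := actS 𝒳 hXS
    rw [permS_eq 𝒳 hXS]
    show (Nat.card (MulAction.fixedBy 𝒳 (s ^ k)) : ℂ) = _
    rw [fixedBy_pow (hk.sub S)]
    rfl
  obtain ⟨φ, ⟨h1, h2⟩, h3, h4⟩ := exists_inv S hidx hk ⊤
    (fun φ : IrrCharacter S => Even (charDegree (φ : S → ℂ)) ∧ Odd (mu (permS 𝒳) (φ : S → ℂ)))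
    (by
      rintro d - φ ⟨h1, h2⟩
      exact ⟨by rwa [charDegree_conjIrr], by rwa [mu_conj_of_inv S d (hXinv d)]⟩)
    (by
      rintro φ ⟨h1, h2⟩
      exact ⟨by rwa [charDegree_pw (hk.sub S)], by rwa [mu_pow (hk.sub S) hXk]⟩)
    hcount
  have hφk := (Twist.fixed_iff (hk.sub S).coprime φ).1 h4
  exact concl_of_phi hM S hidx hk 𝒳 hX φ (hmem φ hφk h1 h2) hφk
    (fun g => h3 g (Subgroup.mem_top g)) h1 h2

/-- **The conclusion from two classes of subgroups permuted by `G`.** -/
theorem concl_of_two (hM : IsPModular 2 M) (S : Subgroup G) [hS : S.Normal] [Fintype S]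
    (hidx : ∃ j : ℕ, S.index = 2 ^ j) (hk : IsK G k) (𝒳 𝒴 : Set (Subgroup S))
    (hdis : Disjoint 𝒳 𝒴) (hne : 𝒳.Nonempty)
    (hXN : ∀ g : S, ∀ H ∈ 𝒳, H.map (MulAut.conj g).toMonoidHom ∈ 𝒳)
    (hα' : ∀ g : G, ((∀ H ∈ 𝒳, cmap S g H ∈ 𝒳) ∧ (∀ H ∈ 𝒴, cmap S g H ∈ 𝒴)) ∨
      ((∀ H ∈ 𝒳, cmap S g H ∈ 𝒴) ∧ (∀ H ∈ 𝒴, cmap S g H ∈ 𝒳)))
    (hall : ¬ ∀ g : G, ∀ H ∈ 𝒳, cmap S g H ∈ 𝒳)
    (hmem : ∀ φ : IrrCharacter S, Odd (mu (permS 𝒳) (φ : S → ℂ)) →
      Even (mu (permS 𝒴) (φ : S → ℂ)) → φ ∈ principalBlock M S)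
    (hodd2 : Odd (Nat.card (Quotient (pairRel 𝒳 𝒳)) + Nat.card (Quotient (pairRel 𝒳 𝒴)))) :
    Concl M G S k := by
  classical
  obtain ⟨H₀, hH₀⟩ := hne
  have hexcl : ∀ H, H ∈ 𝒳 → H ∈ 𝒴 → False := fun H h1 h2 => Set.disjoint_left.1 hdis h1 h2
  push Not at hall
  obtain ⟨g₀, H₁, hH₁, hH₁'⟩ := hall
  have hkeep : ∀ g : G, cmap S g H₀ ∈ 𝒳 → ((∀ H ∈ 𝒳, cmap S g H ∈ 𝒳) ∧ (∀ H ∈ 𝒴, cmap S g H ∈ 𝒴)) := by
    intro g hg
    rcases hα' g with h | h
    · exact h
    · exact (hexcl _ hg (h.1 _ hH₀)).elim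
  have hswap : ∀ g : G, cmap S g H₀ ∉ 𝒳 → ((∀ H ∈ 𝒳, cmap S g H ∈ 𝒴) ∧ (∀ H ∈ 𝒴, cmap S g H ∈ 𝒳)) := by
    intro g hg
    rcases hα' g with h | h
    · exact (hg (h.1 _ hH₀)).elim
    · exact h
  let D : Subgroup G :=
    { carrier := {g | cmap S g H₀ ∈ 𝒳}
      one_mem' := by
        show cmap S 1 H₀ ∈ 𝒳
        rw [cmap_one]
        exact hH₀
      mul_mem' := by
        intro a b ha hb
        show cmap S (a * b) H₀ ∈ 𝒳
        rw [cmap_mul]
        exact (hkeep a ha).1 _ hb
      inv_mem' := by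
        intro a ha
        show cmap S a⁻¹ H₀ ∈ 𝒳
        by_contra h3
        have h4 := (hkeep a ha).2 _ ((hswap _ h3).1 H₀ hH₀)
        rw [← cmap_mul, mul_inv_cancel, cmap_one] at h4
        exact hexcl _ hH₀ h4 }
  have hmemD : ∀ g, g ∈ D ↔ cmap S g H₀ ∈ 𝒳 := fun g => Iff.rfl
  have hg₀ : g₀ ∉ D := by
    intro h
    exact hH₁' ((hkeep g₀ h).1 _ hH₁)
  have hD : D.index = 2 := by
    rw [Subgroup.index_eq_two_iff]
    refine ⟨g₀, fun b => ?_⟩
    by_cases hb : b ∈ D
    · refine Or.inr ⟨hb, fun h => ?_⟩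
      rw [hmemD, cmap_mul] at h
      exact hexcl _ h ((hkeep b hb).2 _ ((hswap g₀ hg₀).1 _ hH₀))
    · refine Or.inl ⟨?_, hb⟩
      rw [hmemD, cmap_mul]
      exact (hswap b hb).2 _ ((hswap g₀ hg₀).1 _ hH₀)
  haveI : D.Normal := Subgroup.normal_of_index_eq_two hD
  have hSD : S ≤ D := by
    intro n hn
    rw [hmemD]
    have := cmap_coe S ⟨n, hn⟩ H₀
    rw [this]
    exact hXN _ _ hH₀
  have hYN : ∀ g : S, ∀ H ∈ 𝒴, H.map (MulAut.conj g).toMonoidHom ∈ 𝒴 := by
    intro g H hH
    rw [← cmap_coe]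
    exact (hkeep (g : G) ((hmemD _).1 (hSD g.2))).2 H hH
  haveI : Fintype D := Fintype.ofFinite _
  haveI : Finite 𝒳 := Subtype.finite
  -- the action of `D` on `𝒳`
  letI : MulAction D 𝒳 :=
    { smul := fun d H => ⟨cmap S (d : G) H, (hkeep (d : G) ((hmemD _).1 d.2)).1 _ H.2⟩
      one_smul := fun H => Subtype.ext (cmap_one S H)
      mul_smul := fun a b H => Subtype.ext (cmap_mul S a b H) }
  have hres : resTo hSD (permC D 𝒳) = permS 𝒳 := by
    funext s
    show (Nat.card (MulAction.fixedBy 𝒳 (⟨(s : G), hSD s.2⟩ : D)) : ℂ) = _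
    rw [permS]
    congr 1
    exact Nat.card_congr
      { toFun := fun H => ⟨H.1.1, H.1.2, by
          have h1 : cmap S (s : G) H.1.1 = H.1.1 := congrArg Subtype.val H.2
          rwa [cmap_coe] at h1⟩
        invFun := fun H => ⟨⟨H.1, H.2.1⟩, Subtype.ext (by
          show cmap S (s : G) H.1 = H.1
          rw [cmap_coe]
          exact H.2.2)⟩
        left_inv := fun H => rfl
        right_inv := fun H => rfl }
  have hsw := hswap g₀ hg₀
  have hsw' : ∀ H ∈ 𝒴, cmap S g₀⁻¹ H ∈ 𝒳 := by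
    intro H hH
    rcases hα' g₀⁻¹ with h | h
    · have h1 := h.2 H hH
      have h2 := hsw.2 _ h1
      rw [← cmap_mul, mul_inv_cancel, cmap_one] at h2
      exact (hexcl _ h2 hH).elim
    · exact h.2 H hH
  have hres2 : (fun s : S => resTo hSD (permC D 𝒳) (MulAut.conjNormal g₀ s)) = permS 𝒴 := by
    funext s
    rw [hres, permS, permS]
    congr 1
    have hcomp : ∀ (H : Subgroup S), H.map (MulAut.conj ((MulAut.conjNormal g₀ : MulAut S) s)).toMonoidHom =
        cmap S g₀ ((cmap S g₀⁻¹ H).map (MulAut.conj s).toMonoidHom) := by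
      intro H
      have h1 := cmap_coe S ((MulAut.conjNormal g₀ : MulAut S) s) H
      rw [← h1, ← cmap_coe, ← cmap_mul, ← cmap_mul]
      congr 1
    refine Nat.card_congr
      { toFun := fun H => ⟨cmap S g₀⁻¹ H.1, ?_, ?_⟩
        invFun := fun H => ⟨cmap S g₀ H.1, ?_, ?_⟩
        left_inv := fun H => ?_
        right_inv := fun H => ?_ }
    · rcases hα' g₀⁻¹ with h | h
      · have h1 := h.1 _ H.2.1
        have h2 := hsw.1 _ h1
        rw [← cmap_mul, mul_inv_cancel, cmap_one] at h2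
        exact (hexcl _ H.2.1 h2).elim
      · exact h.1 _ H.2.1
    · have h1 := H.2.2
      rw [hcomp] at h1
      have h2 := congrArg (cmap S g₀⁻¹) h1
      rw [← cmap_mul, inv_mul_cancel, cmap_one] at h2
      exact h2
    · exact hsw.2 _ H.2.1
    · rw [hcomp, ← cmap_mul, inv_mul_cancel, cmap_one, H.2.2]
    · apply Subtype.ext
      show cmap S g₀ (cmap S g₀⁻¹ H.1) = H.1
      rw [← cmap_mul, mul_inv_cancel, cmap_one]
    · apply Subtype.ext
      show cmap S g₀⁻¹ (cmap S g₀ H.1) = H.1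
      rw [← cmap_mul, inv_mul_cancel, cmap_one]
  refine of_parity_pair hM S hidx hk D hD hSD (π := permC D 𝒳) (GC.of_rchar (rchar_perm 𝒳)) ?_ g₀ hg₀
    ?_ (a := (Nat.card (Quotient (pairRel 𝒳 𝒳)) : ℤ)) (b := (Nat.card (Quotient (pairRel 𝒳 𝒴)) : ℤ))
    ?_ ?_ (by exact_mod_cast hodd2)
  · intro t
    show (Nat.card (MulAction.fixedBy 𝒳 (t ^ k)) : ℂ) = _
    rw [fixedBy_pow (hk.sub D)]
    rfl
  · intro φ h1 h2
    rw [hres2] at h2
    rw [hres] at h1
    exact hmem φ h1 h2
  · rw [hres, classInner_permS 𝒳 𝒳 hXN hXN]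
    push_cast
    rfl
  · rw [hres2, hres, classInner_permS 𝒳 𝒴 hXN hYN]
    push_cast
    rfl

end core

end Cfsg.Agent.H610.EB

private theorem dce_c5d170b4122f : _root_.True := by
  try have : _root_.True := by simp only [_root_.Cfsg.Agent.H610.EB.permS.eq_1]
  exact _root_.True.intro
end

-- part: H332/EB/Two
section
set_option linter.all false
open scoped Cfsg.Agent.FastGrp

-- part: H174/EB/Stab
section
/-!
# TEAM EB: criterion (P) for point stabilizers, and (LOW)

* `evenB_of_action`: `S` acts on `X` with different points having different stabilizers, the automorphisms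
  of `S` permute the stabilizers, `|X| + #(orbits on X × X)` is odd, and the characters of even degree are in the
  principal block.
* `mem_of_index`: if `2 ^ a` divides `|y ^ S|` for all `y ≠ 1` of odd order, and `2 ^ a` does not divide the degree
  of `φ`, then `φ` is in the principal block.
-/

set_option autoImplicit false
set_option linter.unusedSectionVars false
set_option linter.style.haveILetI false

namespace Cfsg.Agent.H174.EB

open Cfsg Cfsg.Agent.H694 Cfsg.Agent.H610.EB Cfsg.Agent.H684.EB MulAction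
open scoped ComplexConjugate
open Cfsg.Agent.Characters.Core
open Cfsg.Agent.Blocks.Local Cfsg.Agent.Blocks.Basic

universe u v w

section stab

variable {S : Type u} [Group S] {N : Type v} [Group N] (X : Type*) [MulAction S X] (f : S ≃* N)

/-- the images of the stabilizers -/
def stabs : Set (Subgroup N) := {H | ∃ x : X, (stabilizer S x).map f.toMonoidHom = H}

theorem map_inj {H K : Subgroup S} (h : H.map f.toMonoidHom = K.map f.toMonoidHom) : H = K :=
  Subgroup.map_injective (f := f.toMonoidHom) f.injective h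

theorem conj_stab (g : S) (x : X) :
    (stabilizer S x).map (MulAut.conj g).toMonoidHom = stabilizer S (g • x) :=
  (stabilizer_smul_eq_stabilizer_map_conj g x).symm

theorem conj_map (g : S) (x : X) :
    ((stabilizer S x).map f.toMonoidHom).map (MulAut.conj (f g)).toMonoidHom =
      (stabilizer S (g • x)).map f.toMonoidHom := by
  rw [← conj_stab, Subgroup.map_map, Subgroup.map_map]
  congr 1
  ext s
  simp

variable {X}

theorem card_stabs (hinj : Function.Injective fun x : X => stabilizer S x) :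
    Nat.card (stabs X f) = Nat.card X := by
  symm
  refine Nat.card_congr (Equiv.ofBijective (fun x : X => (⟨_, x, rfl⟩ : stabs X f)) ⟨?_, ?_⟩)
  · intro x y h
    exact hinj (map_inj f (congrArg Subtype.val h))
  · rintro ⟨_, x, rfl⟩
    exact ⟨x, rfl⟩

theorem card_pairs (hinj : Function.Injective fun x : X => stabilizer S x) :
    Nat.card (Quotient (pairRel (stabs X f) (stabs X f))) =
      Nat.card (orbitRel.Quotient S (X × X)) := by
  symm
  let F : X × X → stabs X f × stabs X f := fun z => (⟨_, z.1, rfl⟩, ⟨_, z.2, rfl⟩)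
  have hF : ∀ z w : X × X, (pairRel (stabs X f) (stabs X f)) (F z) (F w) ↔ ∃ g : S, g • z = w := by
    intro z w
    constructor
    · rintro ⟨n, h1, h2⟩
      obtain ⟨g, rfl⟩ := f.surjective n
      refine ⟨g, Prod.ext ?_ ?_⟩
      · refine hinj (map_inj f ?_)
        exact (conj_map X f g z.1).symm.trans h1
      · refine hinj (map_inj f ?_)
        exact (conj_map X f g z.2).symm.trans h2
    · rintro ⟨g, rfl⟩
      exact ⟨f g, conj_map X f g z.1, conj_map X f g z.2⟩
  refine Nat.card_congr (Equiv.ofBijective (Quotient.lift (fun z => (Quotient.mk _ (F z) :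
    Quotient (pairRel (stabs X f) (stabs X f)))) ?_) ⟨?_, ?_⟩)
  · rintro a b ⟨g, hg⟩
    apply Quotient.sound
    exact (pairRel (stabs X f) (stabs X f)).symm ((hF b a).2 ⟨g, hg⟩)
  · intro a b
    induction a using Quotient.inductionOn with | _ a => ?_
    induction b using Quotient.inductionOn with | _ b => ?_
    intro h
    obtain ⟨g, hg⟩ := (hF b a).1 ((pairRel (stabs X f) (stabs X f)).symm (Quotient.exact h))
    exact Quotient.sound ⟨g, hg⟩
  · intro z
    induction z using Quotient.inductionOn with | _ z => ?_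
    obtain ⟨⟨_, x, rfl⟩, ⟨_, y, rfl⟩⟩ := z
    exact ⟨Quotient.mk _ (x, y), rfl⟩

end stab

/-- **The criterion (P) for an action.** -/
theorem evenB_of_action {S₀ : Type w} [Group S₀] {S : Type u} [Group S] (e : S₀ ≃* S) (X : Type v) [MulAction S₀ X]
    (hinj : Function.Injective fun x : X => stabilizer S₀ x)
    (haut : ∀ (α : S₀ ≃* S₀) (x : X), ∃ y : X, (stabilizer S₀ x).map α.toMonoidHom = stabilizer S₀ y)
    (hodd : Odd (Nat.card X + Nat.card (orbitRel.Quotient S₀ (X × X))))
    (hmem : ∀ (N : Type u) [Group N] [Fintype N], Nonempty (S₀ ≃* N) → ∀ M : Ideal AlgInt, IsPModular 2 M →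
      ∀ φ : IrrCharacter N, Even (charDegree (φ : N → ℂ)) → φ ∈ principalBlock M N) : EvenB S := by
  intro G _ _ N _ _ hf hC hi k hk M hM
  obtain ⟨f'⟩ := hf
  have f : S₀ ≃* N := e.trans f'
  refine concl_of_set hM N hi hk (stabs X f) ?_ (fun φ _ h _ => hmem N ⟨f⟩ M hM φ h) (by
    rwa [card_stabs f hinj, card_pairs f hinj])
  rintro g _ ⟨x, rfl⟩
  obtain ⟨y, hy⟩ := haut ((f.trans (MulAut.conjNormal g : MulAut N)).trans f.symm) x
  refine ⟨y, ?_⟩
  rw [← hy, cmap, Subgroup.map_map, Subgroup.map_map]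
  congr 1
  ext s
  simp

/-! ### (LOW) -/

/-- An integer multiple of an algebraic integer over an integer with smaller `2`-part. -/
theorem memLocalIdeal_of_dvd {M : Ideal AlgInt} (hM : IsPModular 2 M) {z : ℂ} (hz : IsIntegral ℤ z) {a n d : ℕ}
    (hn : 2 ^ a ∣ n) (hd : ¬ 2 ^ a ∣ d) : MemLocalIdeal M ((n : ℂ) * z / d) := by
  have hprime : M.IsPrime := isPrime_of_isPModular hM
  haveI := charP_resField hM
  have hd0 : d ≠ 0 := by
    rintro rfl
    exact hd (dvd_zero _)
  -- `d = 2 ^ b * m`, `m` odd, `b < a`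
  obtain ⟨b, m, hm, rfl⟩ := Nat.exists_eq_two_pow_mul_odd hd0
  have hba : b < a := by
    by_contra h
    exact hd ((pow_dvd_pow 2 (not_lt.1 h)).trans (dvd_mul_right _ _))
  obtain ⟨c, rfl⟩ := hn
  obtain ⟨e, rfl⟩ : ∃ e, a = b + e + 1 := ⟨a - b - 1, by omega⟩
  have hm0 : (m : ℂ) ≠ 0 := by
    have : m ≠ 0 := by
      rintro rfl
      exact absurd hm (by decide)
    exact_mod_cast this
  have h1 : (((2 ^ (b + e + 1) * c : ℕ) : ℂ) * z / ((2 ^ b * m : ℕ) : ℂ)) =
      ((2 : ℕ) : ℂ) * (((2 ^ e * c : ℕ) : ℂ) * z * (m : ℂ)⁻¹) := by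
    push_cast
    rw [pow_add, pow_add, pow_one]
    have h2 : (2 : ℂ) ^ b ≠ 0 := pow_ne_zero _ two_ne_zero
    field_simp
  rw [h1]
  exact memLocalIdeal_mul_right (memLocalIdeal_p hM) (memLocalRing_mul (memLocalRing_mul
    (memLocalRing_natCast _) (memLocalRing_of_isIntegral hz))
    (memLocalRing_inv_natCast hM (fun h => (Nat.not_even_iff_odd.2 hm) (even_iff_two_dvd.2 h))))

/-- **(LOW)** -/
theorem mem_of_index {K : Type u} [Group K] [Fintype K] {M : Ideal AlgInt} (hM : IsPModular 2 M)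
    (φ : IrrCharacter K) {a : ℕ} (hφ : ¬ 2 ^ a ∣ charDegree (φ : K → ℂ))
    (h : ∀ y : K, Odd (orderOf y) → y ≠ 1 → 2 ^ a ∣ (Subgroup.centralizer ({y} : Set K)).index) :
    φ ∈ principalBlock M K := by
  have hprime : M.IsPrime := isPrime_of_isPModular hM
  haveI : Fact (Nat.Prime 2) := ⟨Nat.prime_two⟩
  show SameBlock M (fun _ => (1 : ℂ)) (φ : K → ℂ)
  refine Cfsg.Agent.Blocks.PRegular.sameBlock_of_isPRegular hM isIrrCharacter_one φ.2 fun y hy => ?_
  by_cases hy1 : y = 1
  · subst hy1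
    have h1 : centralChar (fun _ : K => (1 : ℂ)) 1 - centralChar (φ : K → ℂ) 1 = 0 := by
      have h2 : (φ : K → ℂ) 1 ≠ 0 := by
        rw [irr_one_eq_charDegree φ.2]
        exact_mod_cast (charDegree_pos φ.2).ne'
      unfold centralChar
      rw [mul_div_assoc, mul_div_assoc, div_self h2, div_self one_ne_zero, sub_self]
    rw [h1]
    exact memLocalIdeal_zero
  · have hodd : Odd (orderOf y) := by
      rw [← Nat.not_even_iff_odd, even_iff_two_dvd]
      exact hy
    have hi := h y hodd hy1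
    refine memLocalIdeal_sub ?_ ?_
    · have h1 := memLocalIdeal_of_dvd hM (z := 1) isIntegral_one (d := 1) hi (by
        intro h2
        have h3 := Nat.dvd_one.1 h2
        exact hφ (by rw [h3]; exact one_dvd _))
      unfold centralChar
      simpa using h1
    · unfold centralChar
      rw [irr_one_eq_charDegree φ.2]
      exact memLocalIdeal_of_dvd hM (Cfsg.Agent.Blocks.CentralProduct.isIntegral_irr φ.2 y) hi hφ

end Cfsg.Agent.H174.EB
end

-- part: H332/EB/Two
section
/-!
# TEAM EB: actions of rank 3 with two even degrees (helper332)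

`evenB_of_two` : `S` acts on `X` with permutation character `1 + φ + ψ`, `φ(1)` even and different from `ψ(1)`, the
automorphisms of `S` permute the point stabilizers, and the characters of degree `φ(1)` are in the principal block.
-/

set_option autoImplicit false
set_option linter.unusedSectionVars false
set_option linter.style.haveILetI false

namespace Cfsg.Agent.H332.EB.Two

open Cfsg Cfsg.Agent.H694 Cfsg.Agent.H610 Cfsg.Agent.H610.EB Cfsg.Agent.H684.EB Cfsg.Agent.H174.EB MulAction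
open scoped ComplexConjugate
open Cfsg.Agent.Characters.Core
open Cfsg.Agent.Blocks.Basic (irr_one_eq_charDegree charDegree_def)
open Cfsg.Agent.Blocks.Covering (conjIrr conjIrr_apply)

universe u v w

/-- the permutation character on the images of the stabilizers -/
theorem permS_stabs {S : Type w} [Group S] {N : Type u} [Group N] {X : Type v} [MulAction S X] (f : S ≃* N)
    (hinj : Function.Injective fun x : X => stabilizer S x) (n : N) :
    permS (stabs X f) n = (Nat.card (fixedBy X (f.symm n)) : ℂ) := by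
  have hc : ∀ x : X, ((stabilizer S x).map f.toMonoidHom).map (MulAut.conj n).toMonoidHom =
      (stabilizer S (f.symm n • x)).map f.toMonoidHom := by
    intro x
    have h1 := conj_map X f (f.symm n) x
    rwa [f.apply_symm_apply] at h1
  rw [permS]
  congr 1
  symm
  refine Nat.card_congr (Equiv.ofBijective (fun x : fixedBy X (f.symm n) =>
    (⟨(stabilizer S (x : X)).map f.toMonoidHom, ⟨x, rfl⟩, by rw [hc, x.2]⟩ :
      {H : Subgroup N // H ∈ stabs X f ∧ H.map (MulAut.conj n).toMonoidHom = H})) ⟨?_, ?_⟩)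
  · intro x y hxy
    exact Subtype.ext (hinj (map_inj f (congrArg Subtype.val hxy)))
  · rintro ⟨_, ⟨x, rfl⟩, hx⟩
    rw [hc] at hx
    exact ⟨⟨x, hinj (map_inj f hx)⟩, rfl⟩

theorem charDegree_one' {G : Type*} [Group G] : charDegree (1 : G → ℂ) = 1 := by
  unfold charDegree
  simp

/-- The constituents of `1 + φ + ψ` of the degree of `φ`. -/
theorem eq_of_degree {N : Type u} [Group N] [Fintype N] {π : N → ℂ} {φ ψ : IrrCharacter N}
    (hπ : π = 1 + (φ : N → ℂ) + (ψ : N → ℂ)) (heven : Even (charDegree (φ : N → ℂ)))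
    (hne : charDegree (φ : N → ℂ) ≠ charDegree (ψ : N → ℂ)) (θ : IrrCharacter N)
    (hd : charDegree (θ : N → ℂ) = charDegree (φ : N → ℂ)) (h : classInner π (θ : N → ℂ) ≠ 0) : θ = φ := by
  by_contra hcon
  apply h
  have h1 : (θ : N → ℂ) ≠ 1 := by
    intro h0
    rw [← hd, h0, charDegree_one'] at heven
    exact absurd heven (by decide)
  have h2 : (θ : N → ℂ) ≠ φ := fun h0 => hcon (Subtype.ext h0)
  have h3 : (θ : N → ℂ) ≠ ψ := by
    intro h0
    rw [h0] at hd
    exact hne hd.symm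
  rw [hπ, classInner_add_left, classInner_add_left, classInner_irr_ne isIrr_one θ.2 h1.symm,
    classInner_irr_ne φ.2 θ.2 h2.symm, classInner_irr_ne ψ.2 θ.2 h3.symm]
  norm_num

theorem inner_eq_one {N : Type u} [Group N] [Fintype N] {π : N → ℂ} {φ ψ : IrrCharacter N}
    (hπ : π = 1 + (φ : N → ℂ) + (ψ : N → ℂ)) (heven : Even (charDegree (φ : N → ℂ)))
    (hne : charDegree (φ : N → ℂ) ≠ charDegree (ψ : N → ℂ)) : classInner π (φ : N → ℂ) = 1 := by
  have h1 : (φ : N → ℂ) ≠ 1 := by
    intro h0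
    rw [h0, charDegree_one'] at heven
    exact absurd heven (by decide)
  have h3 : (ψ : N → ℂ) ≠ φ := by
    intro h0
    rw [h0] at hne
    exact hne rfl
  rw [hπ, classInner_add_left, classInner_add_left, classInner_irr_ne isIrr_one φ.2 h1.symm,
    classInner_irr_self φ.2, classInner_irr_ne ψ.2 φ.2 h3]
  norm_num

/-- **Rank 3 with two even degrees.** -/
theorem evenB_of_two {S₀ : Type w} [Group S₀] {S : Type u} [Group S] (e : S₀ ≃* S) (X : Type v) [MulAction S₀ X]
    (hinj : Function.Injective fun x : X => stabilizer S₀ x)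
    (haut : ∀ (α : S₀ ≃* S₀) (x : X), ∃ y : X, (stabilizer S₀ x).map α.toMonoidHom = stabilizer S₀ y)
    (φ₀ ψ₀ : IrrCharacter S₀) (heven : Even (charDegree (φ₀ : S₀ → ℂ)))
    (hne : charDegree (φ₀ : S₀ → ℂ) ≠ charDegree (ψ₀ : S₀ → ℂ))
    (hπ : ∀ g : S₀, (Nat.card (fixedBy X g) : ℂ) = 1 + (φ₀ : S₀ → ℂ) g + (ψ₀ : S₀ → ℂ) g)
    (hmem : ∀ (N : Type u) [Group N] [Fintype N], Nonempty (S₀ ≃* N) → ∀ M : Ideal AlgInt, IsPModular 2 M →
      ∀ φ : IrrCharacter N, charDegree (φ : N → ℂ) = charDegree (φ₀ : S₀ → ℂ) → φ ∈ principalBlock M N) :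
    EvenB S := by
  intro G _ _ N _ _ hf hC hi k hk M hM
  obtain ⟨f'⟩ := hf
  obtain ⟨f, -⟩ : ∃ f : S₀ ≃* N, f = e.trans f' := ⟨_, rfl⟩
  -- the set of subgroups
  have hX : ∀ g : G, ∀ H ∈ stabs X f, cmap N g H ∈ stabs X f := by
    rintro g _ ⟨x, rfl⟩
    obtain ⟨y, hy⟩ := haut ((f.trans (MulAut.conjNormal g : MulAut N)).trans f.symm) x
    refine ⟨y, ?_⟩
    rw [← hy, cmap, Subgroup.map_map, Subgroup.map_map]
    congr 1
    ext s
    simp
  have hXN : ∀ g : N, ∀ H ∈ stabs X f, H.map (MulAut.conj g).toMonoidHom ∈ stabs X f := by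
    intro g H hH
    rw [← cmap_coe]
    exact hX _ _ hH
  -- the characters of `N`
  let φ : IrrCharacter N := ⟨(φ₀ : S₀ → ℂ) ∘ f.symm, isIrr_comp f.symm.toMonoidHom f.symm.surjective φ₀.2⟩
  let ψ : IrrCharacter N := ⟨(ψ₀ : S₀ → ℂ) ∘ f.symm, isIrr_comp f.symm.toMonoidHom f.symm.surjective ψ₀.2⟩
  have hdφ : charDegree (φ : N → ℂ) = charDegree (φ₀ : S₀ → ℂ) := by
    show charDegree ((φ₀ : S₀ → ℂ) ∘ f.symm) = _
    unfold charDegree
    rw [Function.comp_apply, map_one]
  have hdψ : charDegree (ψ : N → ℂ) = charDegree (ψ₀ : S₀ → ℂ) := by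
    show charDegree ((ψ₀ : S₀ → ℂ) ∘ f.symm) = _
    unfold charDegree
    rw [Function.comp_apply, map_one]
  have hπN : permS (stabs X f) = 1 + (φ : N → ℂ) + (ψ : N → ℂ) := by
    funext n
    rw [permS_stabs f hinj, hπ]
    rfl
  have hevenN : Even (charDegree (φ : N → ℂ)) := by rwa [hdφ]
  have hneN : charDegree (φ : N → ℂ) ≠ charDegree (ψ : N → ℂ) := by rwa [hdφ, hdψ]
  have hone := inner_eq_one hπN hevenN hneN
  have hmu : mu (permS (stabs X f)) (φ : N → ℂ) = 1 := mu_eq (by rw [hone]; norm_num)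
  haveI : Finite (stabs X f) := Subtype.finite
  -- invariance of the permutation character
  have hXinv : ∀ (d : G) (s : N), permS (stabs X f) (MulAut.conjNormal d s) = permS (stabs X f) s := by
    intro d s
    letI := actSet N (stabs X f) hX
    rw [← permC_restrict N (stabs X f) hX, ← permC_restrict N (stabs X f) hX]
    have h1 := (GC.of_rchar (rchar_perm (G := G) (stabs X f))).cf (s : G) d
    rw [MulAut.conjNormal_apply]
    exact h1
  have hXk : ∀ s : N, permS (stabs X f) (s ^ k) = permS (stabs X f) s := by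
    intro s
    letI := actS (stabs X f) hXN
    rw [permS_eq (stabs X f) hXN]
    show (Nat.card (MulAction.fixedBy (stabs X f) (s ^ k)) : ℂ) = _
    rw [fixedBy_pow (hk.sub N)]
    rfl
  have hGC : GC (permS (stabs X f)) := by
    letI := actS (stabs X f) hXN
    have h1 : GC (permC N (stabs X f)) := GC.of_rchar (rchar_perm (stabs X f))
    rwa [← permS_eq (stabs X f) hXN] at h1
  refine concl_of_phi hM N hi hk (stabs X f) hX φ (hmem N ⟨f⟩ M hM φ hdφ) ?_ ?_ hevenN (by
    rw [hmu]
    exact odd_one)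
  · -- the power map
    have h5 : classInner (permS (stabs X f)) (Twist.pw (hk.sub N).coprime φ : N → ℂ) ≠ 0 := by
      rw [classInner_pw (hk.sub N) hXk, hone]
      exact one_ne_zero
    have h6 := eq_of_degree hπN hevenN hneN _ (charDegree_pw (hk.sub N) φ) h5
    intro s
    rw [← Twist.pw_apply (hk.sub N).coprime φ s, h6]
  · intro g
    refine eq_of_degree hπN hevenN hneN _ (charDegree_conjIrr N g φ) ?_
    rw [classInner_conj_of_inv N g (fun s => hXinv g s), hone]
    exact one_ne_zero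

end Cfsg.Agent.H332.EB.Two
end
end

-- part: H684/EB/EvenS
section
set_option linter.all false
open scoped Cfsg.Agent.FastGrp

/-!
# TEAM EB: simple groups without outer automorphisms of 2-power order

* `EvenS S`: the conclusion of S4522 for `G = S`;
* `evenB_of_evenS` [T00]: `EvenS S` implies `EvenB S` if every automorphism of `S` with an inner 2-power is inner;
* `OneBlock M C`: `C` has only one block.
-/

set_option autoImplicit false

namespace Cfsg.Agent.H684.EB

open Cfsg Cfsg.Agent.H610.EB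
open scoped ComplexConjugate

universe u v

/-- EvenS: the conclusion for `G = S` only. -/
def EvenS (S : Type u) [Group S] : Prop :=
  ∀ k : ℕ, IsK S k → ∀ M : Ideal AlgInt, IsPModular 2 M → ∃ χ ∈ principalBlock M S,
    Even (charDegree (χ : S → ℂ)) ∧ (∀ g : S, (χ : S → ℂ) (g ^ k) = (χ : S → ℂ) g) ∧
      (χ : S → ℂ) ≠ fun _ => 1

/-- `C` has only one `p`-block -/
def OneBlock (M : Ideal AlgInt) (C : Type u) [Group C] : Prop :=
  ∀ χ : IrrCharacter C, χ ∈ principalBlock M C

section
variable {G : Type u} [Group G] {H : Type v} [Group H]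

theorem centralChar_comp_equiv (e : G ≃* H) (ψ : H → ℂ) (x : G) :
    centralChar (ψ ∘ e) x = centralChar ψ (e x) := by
  unfold centralChar
  rw [Function.comp_apply, Function.comp_apply, map_one]
  congr 3
  have h1 : (Subgroup.centralizer ({x} : Set G)) =
      (Subgroup.centralizer ({e x} : Set H)).comap e.toMonoidHom := by
    ext y
    rw [Subgroup.mem_centralizer_singleton_iff, Subgroup.mem_comap,
      Subgroup.mem_centralizer_singleton_iff]
    constructor
    · intro h
      have h2 := congrArg e h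
      rw [map_mul, map_mul] at h2
      exact h2
    · intro h
      apply e.injective
      rw [map_mul, map_mul]
      exact h
  rw [h1]
  exact Subgroup.index_comap_of_surjective _ e.surjective

/-- pull back an irreducible character along an isomorphism -/
def pull (e : G ≃* H) (χ : IrrCharacter H) : IrrCharacter G :=
  ⟨(χ : H → ℂ) ∘ e, Characters.Core.isIrr_comp e.toMonoidHom e.surjective χ.2⟩

theorem pull_apply (e : G ≃* H) (χ : IrrCharacter H) (g : G) :
    (pull e χ : G → ℂ) g = (χ : H → ℂ) (e g) := rfl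

theorem pull_mem (e : G ≃* H) {M : Ideal AlgInt} (χ : IrrCharacter H) :
    pull e χ ∈ principalBlock M G ↔ χ ∈ principalBlock M H := by
  have h1 : ∀ x : G, centralChar (fun _ : G => (1 : ℂ)) x =
      centralChar (fun _ : H => (1 : ℂ)) (e x) := fun x =>
    centralChar_comp_equiv e (fun _ : H => (1 : ℂ)) x
  have h2 : ∀ x : G, centralChar (pull e χ : G → ℂ) x = centralChar (χ : H → ℂ) (e x) := fun x =>
    centralChar_comp_equiv e (χ : H → ℂ) x
  constructor
  · intro h y
    have h3 := h (e.symm y)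
    rw [h1, h2, e.apply_symm_apply] at h3
    exact h3
  · intro h x
    rw [h1, h2]
    exact h (e x)

theorem charDegree_pull (e : G ≃* H) (χ : IrrCharacter H) :
    charDegree (pull e χ : G → ℂ) = charDegree (χ : H → ℂ) := by
  unfold charDegree
  rw [pull_apply, map_one]

theorem isK_congr (e : G ≃* H) {k : ℕ} (h : IsK G k) : IsK H k :=
  h.of_injective e.symm.toMonoidHom e.symm.injective

end

theorem EvenS.congr {S S' : Type u} [Group S] [Group S'] (e : S ≃* S') (h : EvenS S) : EvenS S' := by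
  intro k hk M hM
  obtain ⟨χ, h1, h2, h3, h4⟩ := h k (isK_congr e.symm hk) M hM
  refine ⟨pull e.symm χ, (pull_mem e.symm χ).2 h1, ?_, ?_, ?_⟩
  · rw [charDegree_pull]
    exact h2
  · intro g
    rw [pull_apply, pull_apply, map_pow, h3]
  · intro h5
    apply h4
    funext s
    have h6 := congrFun h5 (e s)
    rw [pull_apply, e.symm_apply_apply] at h6
    exact h6

/-- The conclusion of S4522 for `N = G`. -/
theorem EvenS.concl_top {G : Type u} [Group G] [Fintype G] (h : EvenS G) (N : Subgroup G) [Fintype N]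
    (hN : N = ⊤) {k : ℕ} (hk : IsK G k) {M : Ideal AlgInt} (hM : IsPModular 2 M) : Concl M G N k := by
  obtain ⟨χ, h1, h2, h3, h4⟩ := h k hk M hM
  refine ⟨χ, h1, h2, h3, ?_⟩
  subst hN
  have hirr : IsIrrCharacter ((⊤ : Subgroup G)) (fun s : (⊤ : Subgroup G) => (χ : G → ℂ) s) :=
    Characters.Core.isIrr_comp (⊤ : Subgroup G).subtype (fun g => ⟨⟨g, Subgroup.mem_top g⟩, rfl⟩) χ.2
  refine Characters.Core.classInner_irr_ne hirr Characters.Core.isIrr_one ?_
  intro h5
  apply h4
  funext g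
  exact congrFun h5 (⟨g, Subgroup.mem_top g⟩ : (⊤ : Subgroup G))

/-- **[T00]** no outer automorphism of 2-power order -/
theorem evenB_of_evenS {S : Type u} [Group S] (h : EvenS S)
    (hout : ∀ α : S ≃* S, (∃ j : ℕ, ∃ s : S, ∀ x : S, ((α : MulAut S) ^ 2 ^ j) x = s * x * s⁻¹) →
      ∃ s : S, ∀ x : S, α x = s * x * s⁻¹) : EvenB S := by
  intro G _ _ N hN _ f hC hi k hk M hM
  obtain ⟨e⟩ := f
  have hNtop : N = ⊤ := by
    rw [eq_top_iff]
    intro g _
    let α : S ≃* S := (e.trans (MulAut.conjNormal g : MulAut N)).trans e.symm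
    have hα : ∀ x : S, (e (α x) : G) = g * e x * g⁻¹ := by
      intro x
      show ((e (e.symm ((MulAut.conjNormal g : MulAut N) (e x))) : N) : G) = _
      rw [MulEquiv.apply_symm_apply, MulAut.conjNormal_apply]
    have hpow : ∀ (m : ℕ) (x : S), (e (((α : MulAut S) ^ m) x) : G) = g ^ m * e x * (g ^ m)⁻¹ := by
      intro m
      induction m with
      | zero =>
        intro x
        simp
      | succ m ih =>
        intro x
        rw [pow_succ, MulAut.mul_apply, ih, show ((α : MulAut S) x) = α x from rfl, hα, pow_succ]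
        group
    obtain ⟨j, hj⟩ := hi
    have hgj : g ^ 2 ^ j ∈ N := by
      rw [← hj]
      exact Subgroup.pow_index_mem _ _
    obtain ⟨s, hs⟩ := hout α ⟨j, e.symm ⟨g ^ 2 ^ j, hgj⟩, fun x => by
      apply e.injective
      apply Subtype.ext
      rw [hpow, map_mul, map_mul, map_inv, MulEquiv.apply_symm_apply]
      rfl⟩
    have h2 : (e s : G)⁻¹ * g ∈ Subgroup.centralizer (N : Set G) := by
      rw [Subgroup.mem_centralizer_iff]
      intro n hn
      obtain ⟨x, hx⟩ := e.surjective ⟨n, hn⟩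
      have h3 := hα x
      rw [hs x, map_mul, map_mul, map_inv, hx] at h3
      have h4 : (e s : G) * n * (e s : G)⁻¹ = g * n * g⁻¹ := h3
      have h5 : n = (e s : G)⁻¹ * ((e s : G) * n * (e s : G)⁻¹) * e s := by group
      rw [h4] at h5
      calc n * ((e s : G)⁻¹ * g)
          = (e s : G)⁻¹ * (g * n * g⁻¹) * e s * ((e s : G)⁻¹ * g) := by
            rw [← h5]
        _ = (e s : G)⁻¹ * g * n := by group
    rw [hC, Subgroup.mem_bot] at h2
    rw [← inv_mul_eq_one.1 h2]
    exact (e s).2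
  have hSG : S ≃* G := (e.trans (MulEquiv.subgroupCongr hNtop)).trans Subgroup.topEquiv
  exact (h.congr hSG).concl_top N hNtop hk hM

/-- Every automorphism is inner. -/
theorem evenB_of_evenS_of_inner {S : Type u} [Group S] (h : EvenS S)
    (hout : ∀ α : S ≃* S, ∃ s : S, ∀ x : S, α x = s * x * s⁻¹) : EvenB S :=
  evenB_of_evenS h fun α _ => hout α

end Cfsg.Agent.H684.EB
end
end
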