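import Mathlib.GroupTheory.Perm.Centralizer
import Mathlib.GroupTheory.SpecificGroups.Alternating
import Cfsg.Prelude.Def_SporadicB
import Cfsg.Agent.H332.EB.McLAut
import Cfsg.Agent.H332.EB.Two_m3
import Cfsg.Agent.H701.EB.CoThree
import Cfsg.Agent.S2132
import Cfsg.Agent.FastGrp
import Cfsg.Agent.Prune
set_option linter.all false
prune_inst 0x7f00000000000000000000000000000000000000000000000000000000000000000000000000000000000000000000000000000000000000000000000000000000000000000000000000000000000000003fffffffffffffffffffffffffffbeffbdffffffff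
open scoped Cfsg.Agent.FastGrp

-- part: H332/EB/Low
section
/-!
# The 2-part of the centralizers of the elements of odd order: involution centralizer `2.A₈` (helper332)

`not_dvd` : if all involutions of `G` are conjugate with centralizer a double cover of `A₈`, then `2 ^ 5` does not divide
the order of the centralizer of an element `y ≠ 1` of odd order.
-/

set_option autoImplicit false

namespace Cfsg.Agent.H332.EB.Low

open Cfsg Subgroup
open scoped Nat

/-- The centralizers in `S₈`. -/
theorem perm8 (σ : Equiv.Perm (Fin 8)) (ho : Odd (orderOf σ)) (h1 : σ ≠ 1) :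
    ¬ 2 ^ 4 ∣ Nat.card (centralizer ({σ} : Set (Equiv.Perm (Fin 8)))) := by
  have hpos := orderOf_pos σ
  obtain ⟨p, hp, hpd⟩ := Nat.exists_prime_and_dvd (n := orderOf σ) (by
    rwa [Ne, orderOf_eq_one_iff])
  obtain ⟨m, hm⟩ := hpd
  have hm0 : m ≠ 0 := by
    rintro rfl
    omega
  obtain ⟨τ, hτ⟩ : ∃ τ, τ = σ ^ m := ⟨_, rfl⟩
  have hoτ : orderOf τ = p := by
    rw [hτ, orderOf_pow_of_dvd hm0 (Dvd.intro_left p hm.symm), hm, Nat.mul_div_cancel _ (Nat.pos_of_ne_zero hm0)]
  have hp2 : Odd p := by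
    rw [hm] at ho
    exact (Nat.odd_mul.1 ho).1
  intro hd
  have hle : centralizer ({σ} : Set (Equiv.Perm (Fin 8))) ≤ centralizer ({τ} : Set (Equiv.Perm (Fin 8))) := by
    intro x hx
    rw [mem_centralizer_singleton_iff] at hx ⊢
    rw [hτ]
    exact (Commute.pow_right hx m).eq
  have hd' : 2 ^ 4 ∣ Nat.card (centralizer ({τ} : Set (Equiv.Perm (Fin 8)))) := hd.trans (card_dvd_of_le hle)
  obtain ⟨n, hn⟩ := Equiv.Perm.cycleType_prime_order (σ := τ) (by rwa [hoτ])
  rw [hoτ] at hn
  have hsum : (n + 1) * p ≤ 8 := by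
    have h2 : τ.cycleType.sum = (n + 1) * p := by
      rw [hn, Multiset.sum_replicate, smul_eq_mul]
    rw [← h2, Equiv.Perm.sum_cycleType]
    exact (Finset.card_le_univ _).trans (by simp)
  rw [Equiv.Perm.nat_card_centralizer, hn] at hd'
  have hp3 : 3 ≤ p := by
    rcases hp2 with ⟨q, hq⟩
    have := hp.two_le
    omega
  have hn1 : n ≤ 1 := by
    by_contra hcon
    push Not at hcon
    nlinarith
  have hp7 : p ≤ 8 := by
    nlinarith
  have hf : ∀ n p : ℕ, ((Multiset.replicate (n + 1) p).toFinset) = {p} := by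
    intro n p
    rw [Multiset.toFinset_replicate, if_neg (by omega)]
  rw [hf, Finset.prod_singleton, Multiset.count_replicate_self, Multiset.sum_replicate, Multiset.prod_replicate,
    Fintype.card_fin, smul_eq_mul] at hd'
  interval_cases n
  · interval_cases p
    · revert hd'; decide
    · exact absurd hp2 (by decide)
    · revert hd'; decide
    · exact absurd hp2 (by decide)
    · revert hd'; decide
    · exact absurd hp2 (by decide)
  · have hp4 : p ≤ 4 := by omega
    interval_cases p
    · revert hd'; decide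
    · exact absurd hp2 (by decide)

/-- The subgroup `Q` of a double cover of `A₈` centralizing an element of odd order. -/
theorem cover8 {C : Type*} [Group C] [Finite C] (h : IsNonsplitDoubleCover C ↥(alternatingGroup (Fin 8))) (y : C)
    (ho : Odd (orderOf y)) (h1 : y ≠ 1) (Q : Subgroup C) (hQ : ∀ q ∈ Q, q * y = y * q) : ¬ 2 ^ 5 ∣ Nat.card Q := by
  obtain ⟨hc, ⟨e⟩, -⟩ := h
  intro hd
  let f : C →* Equiv.Perm (Fin 8) :=
    (alternatingGroup (Fin 8)).subtype.comp (e.toMonoidHom.comp (QuotientGroup.mk' (center C)))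
  have hker : ∀ x : C, f x = 1 ↔ x ∈ center C := by
    intro x
    show ((e (QuotientGroup.mk' (center C) x) : alternatingGroup (Fin 8)) : Equiv.Perm (Fin 8)) = 1 ↔ _
    rw [OneMemClass.coe_eq_one, MulEquiv.map_eq_one_iff, QuotientGroup.mk'_apply, QuotientGroup.eq_one_iff]
  have hfo : Odd (orderOf (f y)) := by
    obtain ⟨c, hc'⟩ := orderOf_map_dvd f y
    rw [hc'] at ho
    exact (Nat.odd_mul.1 ho).1
  have hf1 : f y ≠ 1 := by
    intro h0
    rw [hker] at h0
    have h2 : orderOf (⟨y, h0⟩ : center C) ∣ Nat.card (center C) := orderOf_dvd_natCard _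
    rw [Subgroup.orderOf_mk, hc] at h2
    rcases (Nat.dvd_prime Nat.prime_two).1 h2 with h3 | h3
    · exact h1 (orderOf_eq_one_iff.1 h3)
    · rw [h3] at ho
      exact absurd ho (by decide)
  -- the image
  let g : Q →* Equiv.Perm (Fin 8) := f.comp Q.subtype
  have hle : g.range ≤ centralizer ({f y} : Set (Equiv.Perm (Fin 8))) := by
    rintro _ ⟨q, rfl⟩
    rw [mem_centralizer_singleton_iff]
    show f q * f y = f y * f q
    rw [← map_mul, ← map_mul, hQ q q.2]
  have hk : Nat.card g.ker ∣ 2 := by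
    rw [← hc]
    have hmem : ∀ x : g.ker, ((x : Q) : C) ∈ center C := by
      intro x
      rw [← hker]
      exact x.2
    let j : g.ker →* center C :=
      { toFun := fun x => ⟨((x : Q) : C), hmem x⟩
        map_one' := rfl
        map_mul' := fun _ _ => rfl }
    refine card_dvd_of_injective j ?_
    intro a b hab
    exact Subtype.ext (Subtype.ext (congrArg (fun z : center C => (z : C)) hab))
  have hmul : Nat.card Q = Nat.card g.ker * Nat.card g.range := by
    rw [← card_mul_index g.ker, index_ker]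
  have h5 : 2 ^ 5 ∣ 2 * Nat.card g.range := by
    rw [hmul] at hd
    exact hd.trans (mul_dvd_mul_right hk _)
  have h6 : 2 ^ 4 ∣ Nat.card g.range := by
    rw [pow_succ, mul_comm] at h5
    exact (Nat.mul_dvd_mul_iff_left (by norm_num)).1 h5
  exact perm8 (f y) hfo hf1 (h6.trans (card_dvd_of_le hle))

/-- **The 2-part of the centralizer of an element of odd order.** -/
theorem not_dvd {G : Type*} [Group G] [Finite G] (hcl : ∀ x y : G, orderOf x = 2 → orderOf y = 2 → IsConj x y)
    {t : G} (ht : orderOf t = 2)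
    (hC : IsNonsplitDoubleCover ↥(centralizer ({t} : Set G)) ↥(alternatingGroup (Fin 8)))
    (y : G) (ho : Odd (orderOf y)) (h1 : y ≠ 1) : ¬ 2 ^ 5 ∣ Nat.card (centralizer ({y} : Set G)) := by
  have : Fact (Nat.Prime 2) := ⟨Nat.prime_two⟩
  intro hd
  obtain ⟨Q, hQ⟩ := Sylow.exists_subgroup_card_pow_prime 2 hd
  have hQp : IsPGroup 2 Q := IsPGroup.iff_card.2 ⟨5, hQ⟩
  have hnt : Nontrivial Q := by
    rw [← Finite.one_lt_card_iff_nontrivial, hQ]
    norm_num
  have hZ := hQp.center_nontrivial
  have hZp : IsPGroup 2 (center Q) := hQp.to_subgroup _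
  obtain ⟨n, hn, hcard⟩ := (IsPGroup.nontrivial_iff_card hZp).1 hZ
  obtain ⟨z, hz⟩ := exists_prime_orderOf_dvd_card' (G := center Q) 2 (by
    rw [hcard]
    exact dvd_pow_self 2 (Nat.pos_iff_ne_zero.1 hn))
  -- the involution
  let z' : G := (((z : Q) : centralizer ({y} : Set G)) : G)
  have hz' : orderOf z' = 2 := by
    show orderOf ((((z : Q) : centralizer ({y} : Set G)) : G)) = 2
    rw [Subgroup.orderOf_coe, Subgroup.orderOf_coe, Subgroup.orderOf_coe, hz]
  obtain ⟨g, hg⟩ := isConj_iff.1 (hcl z' t hz' ht)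
  -- `Q` in `C(t)`
  have hzy : y * z' = z' * y := by
    have := mem_centralizer_singleton_iff.1 ((z : Q) : centralizer ({y} : Set G)).2
    exact this.symm
  have hyC : g * y * g⁻¹ ∈ centralizer ({t} : Set G) := by
    rw [mem_centralizer_singleton_iff, ← hg]
    calc g * y * g⁻¹ * (g * z' * g⁻¹) = g * (y * z') * g⁻¹ := by group
      _ = g * (z' * y) * g⁻¹ := by rw [hzy]
      _ = g * z' * g⁻¹ * (g * y * g⁻¹) := by group
  have hqC : ∀ q : Q, g * (((q : Q) : centralizer ({y} : Set G)) : G) * g⁻¹ ∈ centralizer ({t} : Set G) := by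
    intro q
    have hqz : (((q : Q) : centralizer ({y} : Set G)) : G) * z' = z' * (((q : Q) : centralizer ({y} : Set G)) : G) := by
      have h2 := Subgroup.mem_center_iff.1 z.2 q
      exact congrArg (fun w : Q => (((w : Q) : centralizer ({y} : Set G)) : G)) h2
    rw [mem_centralizer_singleton_iff, ← hg]
    calc g * (((q : Q) : centralizer ({y} : Set G)) : G) * g⁻¹ * (g * z' * g⁻¹)
        = g * ((((q : Q) : centralizer ({y} : Set G)) : G) * z') * g⁻¹ := by group
      _ = g * (z' * (((q : Q) : centralizer ({y} : Set G)) : G)) * g⁻¹ := by rw [hqz]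
      _ = g * z' * g⁻¹ * (g * (((q : Q) : centralizer ({y} : Set G)) : G) * g⁻¹) := by group
  let j : Q →* centralizer ({t} : Set G) :=
    { toFun := fun q => ⟨g * (((q : Q) : centralizer ({y} : Set G)) : G) * g⁻¹, hqC q⟩
      map_one' := by
        apply Subtype.ext
        show g * (1 : G) * g⁻¹ = 1
        group
      map_mul' := fun a b => by
        apply Subtype.ext
        show g * ((((a : Q) : centralizer ({y} : Set G)) : G) * (((b : Q) : centralizer ({y} : Set G)) : G)) * g⁻¹ =
          g * (((a : Q) : centralizer ({y} : Set G)) : G) * g⁻¹ * (g * (((b : Q) : centralizer ({y} : Set G)) : G) * g⁻¹)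
        group }
  have hj : Function.Injective j := by
    intro a b hab
    have h2 : g * (((a : Q) : centralizer ({y} : Set G)) : G) * g⁻¹ =
        g * (((b : Q) : centralizer ({y} : Set G)) : G) * g⁻¹ :=
      congrArg (fun w : centralizer ({t} : Set G) => (w : G)) hab
    exact Subtype.ext (Subtype.ext (mul_left_cancel (mul_right_cancel h2)))
  refine cover8 hC ⟨g * y * g⁻¹, hyC⟩ ?_ ?_ j.range ?_ ?_
  · rw [Subgroup.orderOf_mk]
    have h2 : orderOf (g * y * g⁻¹) = orderOf y := by
      have := orderOf_injective (MulAut.conj g).toMonoidHom (MulAut.conj g).injective y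
      exact this
    rwa [h2]
  · intro h0
    have h2 : g * y * g⁻¹ = 1 := congrArg (fun w : centralizer ({t} : Set G) => (w : G)) h0
    apply h1
    calc y = g⁻¹ * (g * y * g⁻¹) * g := by group
      _ = 1 := by rw [h2]; group
  · rintro _ ⟨q, rfl⟩
    apply Subtype.ext
    show g * (((q : Q) : centralizer ({y} : Set G)) : G) * g⁻¹ * (g * y * g⁻¹) =
      g * y * g⁻¹ * (g * (((q : Q) : centralizer ({y} : Set G)) : G) * g⁻¹)
    have h2 := mem_centralizer_singleton_iff.1 (q : centralizer ({y} : Set G)).2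
    calc g * (((q : Q) : centralizer ({y} : Set G)) : G) * g⁻¹ * (g * y * g⁻¹)
        = g * ((((q : Q) : centralizer ({y} : Set G)) : G) * y) * g⁻¹ := by group
      _ = g * (y * (((q : Q) : centralizer ({y} : Set G)) : G)) * g⁻¹ := by rw [h2]
      _ = g * y * g⁻¹ * (g * (((q : Q) : centralizer ({y} : Set G)) : G) * g⁻¹) := by group
  · have h2 : Nat.card j.range = Nat.card Q := (Nat.card_congr (MonoidHom.ofInjective hj).toEquiv).symm
    rw [h2, hQ]

end Cfsg.Agent.H332.EB.Low
end

-- part: H332/EB/McL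
section
/-!
# TEAM EB: the row `McL` (helper332)

The action on 275 points, with permutation character `1 + 22 + 252`; the characters of degree 22 are in the principal
2-block, since `4` divides the lengths of the classes of the elements `y ≠ 1` of odd order.
-/

set_option autoImplicit false
set_option linter.style.haveILetI false

namespace Cfsg.Agent.H332.EB.McL

open Cfsg MulAction Cfsg.Agent.H332.EB.McLAut Cfsg.Agent.H684.EB
open Cfsg.Agent.SporadicRecognition.RankThreeOf (act)
open Cfsg.Agent.H705.Imc.McL (XS xs_inv xs_facts x1_mem)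
open Cfsg.Agent.SporadicRecognition.McLAssemble (norm_U norm_negV norm_sub)
open Cfsg.Agent.H713.Spor Cfsg.Agent.H713.Spor.RankThree

universe u

/-- Different points have different stabilizers. -/
theorem hinj :
    letI := act K0 X0 (xs_inv _ _)
    Function.Injective fun x : ↥X0 => stabilizer ↥K0 x := by
  letI := act K0 X0 (xs_inv _ _)
  intro x y hxy
  have hxy' : stabilizer ↥K0 x = stabilizer ↥K0 y := hxy
  by_contra hne
  have hne' : (y : ↥leechLattice) ≠ x := fun h => hne (Subtype.ext h.symm)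
  obtain ⟨h1, -⟩ := Cfsg.Agent.S1580.result (-Spor.leechV) Spor.leechU norm_negV ⟨norm_U, norm_sub⟩
  obtain ⟨h3, h4, h5⟩ := Cfsg.Agent.S1581.result (-Spor.leechV) Spor.leechU x norm_negV ⟨norm_U, norm_sub⟩ x.2
  change X0.ncard = 275 at h1
  have hfin : X0.Finite := Set.finite_of_ncard_pos (by rw [h1]; norm_num)
  -- a second point in the orbit of `y`
  have key : ∀ S : Set ↥leechLattice, (∀ z ∈ S, z ∈ X0 ∧ z ≠ x) → (∀ z ∈ S, ∀ z' ∈ S,
      dotInt ((x : ↥leechLattice) : GolayPt → ℤ) (z : GolayPt → ℤ) =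
      dotInt ((x : ↥leechLattice) : GolayPt → ℤ) (z' : GolayPt → ℤ)) → (y : ↥leechLattice) ∈ S → 1 < S.ncard → False := by
    intro S hS hS' hyS hc
    obtain ⟨z, hz, hzy⟩ := Set.exists_ne_of_one_lt_ncard hc (y : ↥leechLattice)
    obtain ⟨g, hg1, hg2, hg3, hg4⟩ := h5 y y.2 z (hS z hz).1 hne' (hS z hz).2 (hS' _ hyS _ hz)
    have hgK : g ∈ K0 := ⟨hg1, hg2⟩
    have h6 : (⟨g, hgK⟩ : ↥K0) ∈ stabilizer ↥K0 x := Subtype.ext hg3
    rw [hxy'] at h6
    have h7 : g • (y : ↥leechLattice) = y := congrArg (fun w : ↥X0 => (w : ↥leechLattice)) h6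
    exact hzy (hg4.symm.trans h7)
  set S8 : Set ↥leechLattice := {y | y ∈ X0 ∧ dotInt ((x : ↥leechLattice) : GolayPt → ℤ) (y : GolayPt → ℤ) = 8} with hS8
  set S16 : Set ↥leechLattice := {y | y ∈ X0 ∧ y ≠ x ∧
    dotInt ((x : ↥leechLattice) : GolayPt → ℤ) (y : GolayPt → ℤ) = 16} with hS16
  change S8.ncard = 112 at h3
  change S16.ncard = 162 at h4
  have hx0 : dotInt ((x : ↥leechLattice) : GolayPt → ℤ) ((x : ↥leechLattice) : GolayPt → ℤ) = 32 := by
    rw [Cfsg.Agent.Leech.Basic.dotInt_self]
    exact x.2.1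
  have f8 : S8.Finite := hfin.subset fun y hy => hy.1
  have f16 : S16.Finite := hfin.subset fun y hy => hy.1
  have hd : Disjoint S8 S16 := by
    rw [Set.disjoint_left]
    rintro z hz hz'
    have e1 := hz.2
    have e2 := hz'.2.2
    omega
  have hd' : (x : ↥leechLattice) ∉ S8 ∪ S16 := by
    rintro (hz | hz)
    · have e1 := hz.2
      omega
    · exact hz.2.1 rfl
  have hU : insert (x : ↥leechLattice) (S8 ∪ S16) = X0 := by
    apply Set.eq_of_subset_of_ncard_le _ _ hfin
    · rintro z (rfl | hz | hz)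
      · exact x.2
      · exact hz.1
      · exact hz.1
    · rw [Set.ncard_insert_of_notMem hd' (f8.union f16), Set.ncard_union_eq hd f8 f16, h1, h3, h4]
  have hy' : (y : ↥leechLattice) ∈ insert (x : ↥leechLattice) (S8 ∪ S16) := by rw [hU]; exact y.2
  rcases hy' with h6 | h6 | h6
  · exact hne' h6
  · refine key S8 (fun z hz => ⟨hz.1, ?_⟩) (fun z hz z' hz' => hz.2.trans hz'.2.symm) h6 (by rw [h3]; norm_num)
    rintro rfl
    have e1 := hz.2
    omega
  · exact key S16 (fun z hz => ⟨hz.1, hz.2.1⟩) (fun z hz z' hz' => hz.2.2.trans hz'.2.2.symm) h6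
      (by rw [h4]; norm_num)

/-- The permutation character is `1 + 22 + 252`. -/
theorem chars :
    letI := act K0 X0 (xs_inv _ _)
    ∃ φ ψ : IrrCharacter ↥K0, charDegree (φ : ↥K0 → ℂ) = 22 ∧ charDegree (ψ : ↥K0 → ℂ) = 252 ∧
      ∀ g : ↥K0, (Nat.card (fixedBy ↥X0 g) : ℂ) = 1 + (φ : ↥K0 → ℂ) g + (ψ : ↥K0 → ℂ) g := by
  classical
  obtain ⟨hs, hc⟩ := Cfsg.Agent.H713.Spor.McL.facts
  have hfin : Finite ↥K0 := Nat.finite_of_card_ne_zero (by rw [hc]; norm_num)
  have := Fintype.ofFinite ↥K0
  let actX := act K0 X0 (xs_inv _ _)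
  obtain ⟨hcX, htr, hr⟩ := xs_facts
  have hfX : Finite ↥X0 := Nat.finite_of_card_ne_zero (by rw [hcX]; norm_num)
  obtain ⟨μ, hμ1, hμ⟩ := Cfsg.Agent.H713.Spor.McL.exists_22
  have hdeg := HS.degree_of_lchi hμ
  have hμd : charDegree (μ : ↥K0 → ℂ) = 22 := by omega
  have : Nonempty ↥X0 := ⟨⟨_, x1_mem⟩⟩
  have hne := RankThree.inner_ne K0.subtype μ hμ1 hμ
    ↥X0 (fun x => x.1) (fun g x => rfl) (by
      intro x
      by_contra hcon
      push Not at hcon
      have hsub : ∀ y : ↥X0, y = x := by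
        intro y
        obtain ⟨g, hg⟩ := exists_smul_eq ↥K0 x y
        rw [← hg]
        exact Subtype.ext (hcon g)
      have h6 : Nat.card ↥X0 = 1 := by
        rw [Nat.card_eq_one_iff_exists]
        exact ⟨x, hsub⟩
      exact absurd (h6.symm.trans hcX) (by norm_num))
  obtain ⟨χ, hχ, hpc⟩ := Cfsg.Agent.H705.Imc.irr_other' (G := ↥K0) ↥X0
    hr μ hμ1 hne (by rw [hμd, hcX]; norm_num)
  have hχd : charDegree (χ : ↥K0 → ℂ) = 252 := by rw [hχ, hcX, hμd]
  refine ⟨μ, χ, hμd, hχd, fun g => ?_⟩
  exact congrFun hpc g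

/-- The characters of degree 22 are in the principal block. -/
theorem mem {N : Type u} [Group N] [Fintype N] (e : ↥Spor.McL ≃* N) {M : Ideal AlgInt} (hM : IsPModular 2 M)
    (φ : IrrCharacter N) (hd : charDegree (φ : N → ℂ) = 22) : φ ∈ principalBlock M N := by
  have : Fact (Nat.Prime 2) := ⟨Nat.prime_two⟩
  have hc : Nat.card N = 898128000 := by
    rw [← Nat.card_congr e.toEquiv]
    exact Cfsg.Agent.NotCT.Orders.mcl (K := ↥Spor.McL) ⟨MulEquiv.refl _⟩
  have : Finite ↥Spor.McL := Finite.of_equiv N e.symm.toEquiv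
  obtain ⟨hcl, t, ht, hC⟩ := Cfsg.Agent.S2132.result
  refine H497.EB.mem_of_low hM φ fun y hy hy1 => ?_
  rw [hd]
  have h22 : (22 : ℕ).factorization 2 = 1 := by
    rw [show (22 : ℕ) = 2 * 11 by norm_num, Nat.factorization_mul (by norm_num) (by norm_num), Finsupp.add_apply,
      Nat.Prime.factorization_self Nat.prime_two, Nat.factorization_eq_zero_of_not_dvd (by norm_num)]
  rw [h22]
  have ho : Odd (orderOf y) := by
    rw [← Nat.not_even_iff_odd, even_iff_two_dvd]
    exact hy
  -- the centralizer in `McL`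
  have h1 : ¬ 2 ^ 5 ∣ Nat.card (Subgroup.centralizer ({y} : Set N)) := by
    have h2 := Low.not_dvd hcl ht hC (e.symm y) (by rwa [MulEquiv.orderOf_eq]) (by
      intro h0
      exact hy1 ((MulEquiv.map_eq_one_iff e.symm).1 h0))
    have h3 : Nat.card (Subgroup.centralizer ({y} : Set N)) =
        Nat.card (Subgroup.centralizer ({e.symm y} : Set ↥Spor.McL)) := by
      refine Nat.card_congr ⟨fun z => ⟨e.symm z, ?_⟩, fun z => ⟨e z, ?_⟩, fun z => ?_, fun z => ?_⟩
      · have := Subgroup.mem_centralizer_singleton_iff.1 z.2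
        rw [Subgroup.mem_centralizer_singleton_iff, ← map_mul, ← map_mul, this]
      · have := Subgroup.mem_centralizer_singleton_iff.1 z.2
        rw [Subgroup.mem_centralizer_singleton_iff]
        apply e.symm.injective
        rw [map_mul, map_mul, e.symm_apply_apply, this]
      · exact Subtype.ext (e.apply_symm_apply _)
      · exact Subtype.ext (e.symm_apply_apply _)
    rwa [h3]
  -- the index
  have h4 := Subgroup.card_mul_index (Subgroup.centralizer ({y} : Set N))
  rw [hc] at h4
  by_contra hcon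
  push Not at hcon
  have hi0 : (Subgroup.centralizer ({y} : Set N)).index ≠ 0 := Subgroup.index_ne_zero_of_finite
  have hc0 : Nat.card (Subgroup.centralizer ({y} : Set N)) ≠ 0 := Nat.card_pos.ne'
  have h5 : (Nat.card (Subgroup.centralizer ({y} : Set N)) *
      (Subgroup.centralizer ({y} : Set N)).index).factorization 2 = (898128000 : ℕ).factorization 2 := by
    rw [h4]
  rw [Nat.factorization_mul hc0 hi0, Finsupp.add_apply] at h5
  have h6 : (898128000 : ℕ).factorization 2 = 7 := by
    rw [show (898128000 : ℕ) = 2 ^ 7 * 7016625 by norm_num, Nat.factorization_mul (by norm_num) (by norm_num),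
      Nat.factorization_pow, Finsupp.add_apply, Nat.factorization_eq_zero_of_not_dvd (n := 7016625) (by norm_num)]
    simp [Nat.Prime.factorization_self Nat.prime_two]
  rw [h6] at h5
  apply h1
  exact (Nat.pow_dvd_pow 2 (by omega : 5 ≤ (Nat.card (Subgroup.centralizer ({y} : Set N))).factorization 2)).trans
    (Nat.ordProj_dvd _ _)

/-- **Row `McL`.** -/
theorem evenB_mcl {S : Type u} [Group S] (h : Cfsg.Spor.IsoMcL S) : EvenB S := by
  obtain ⟨e⟩ := h
  letI := act K0 X0 (xs_inv _ _)
  obtain ⟨φ, ψ, h1, h2, h3⟩ := chars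
  refine Two.evenB_of_two (e.trans H713.Spor.McL.mclEquiv).symm ↥X0 hinj haut φ ψ (by rw [h1]; decide)
    (by rw [h1, h2]; norm_num) h3 ?_
  intro N _ _ hN M hM θ hθ
  obtain ⟨f⟩ := hN
  exact mem (H713.Spor.McL.mclEquiv.trans f) hM θ (by rw [hθ, h1])

end Cfsg.Agent.H332.EB.McL
end
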