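import Cfsg.Agent.H305.EB.RankThree
import Cfsg.Agent.H332.EB.Two_m3
import Cfsg.Agent.KFacts.FiTF.FixZ_m3
import Cfsg.Agent.H830.Con22
import Cfsg.Agent.H816.Quasi
import Cfsg.Agent.KFacts.FiTTh.Has
import Cfsg.Agent.FastGrp
import Cfsg.Agent.Prune
set_option linter.all false
prune_inst 0x7f00000000000000000000000000000000000000000000000000000000000000000000000000000000000000000000000000000000000000000000000000000000000000000000000000000000000000003fffffffffffffffffffffffffffbeffbdffffffff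
open scoped Cfsg.Agent.FastGrp

-- part: H305/EB/Inner
section
/-!
# TEAM EB: groups without outer automorphisms (helper305)

`evenB_of_inner` : `EvenB S` from the conclusion for `G = S` (for all isomorphic copies), all automorphisms being inner.
-/

set_option autoImplicit false
set_option linter.style.haveILetI false

namespace Cfsg.Agent.H305.EB

open Cfsg Cfsg.Agent.Characters Cfsg.Agent.Characters.Core Cfsg.Agent.H690.Spor.RankThree
open Cfsg.Agent.H610.EB Cfsg.Agent.H694 Cfsg.Agent.H684.EB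

universe u v

/-- The conclusion for `G = S`. -/
def EvenS (S : Type u) [Group S] : Prop :=
  ∀ k : ℕ, IsK S k → ∀ M : Ideal AlgInt, IsPModular 2 M → ∃ χ ∈ principalBlock M S,
    Even (charDegree (χ : S → ℂ)) ∧ (∀ g : S, (χ : S → ℂ) (g ^ k) = (χ : S → ℂ) g) ∧
      (χ : S → ℂ) ≠ fun _ => 1

theorem evenB_of_inner {S : Type u} [Group S] (hin : ∀ α : S ≃* S, ∃ s : S, ∀ x : S, α x = s * x * s⁻¹)
    (hex : ∀ (G : Type u) [Group G] [Fintype G], S ≃* G → EvenS G) : EvenB S := by
  intro G _ _ N hN _ f hC hidx k hk M hM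
  obtain ⟨e⟩ := f
  have htop : N = ⊤ := by
    rw [eq_top_iff]
    intro g _
    obtain ⟨s, hs⟩ := hin ((e.trans (MulAut.conjNormal g : MulAut N)).trans e.symm)
    have h1 : (e s : G)⁻¹ * g ∈ Subgroup.centralizer (N : Set G) := by
      rw [Subgroup.mem_centralizer_iff]
      intro n hn
      obtain ⟨x, hx⟩ := e.surjective ⟨n, hn⟩
      have h2 : (MulAut.conjNormal g : MulAut N) (e x) = e s * e x * (e s)⁻¹ := by
        have h3 := congrArg e (hs x)
        rw [map_mul, map_mul, map_inv] at h3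
        rw [← h3]
        exact (e.apply_symm_apply _).symm
      have h3 := congrArg Subtype.val h2
      rw [MulAut.conjNormal_apply] at h3
      have h4 : g * n * g⁻¹ = (e s : G) * n * (e s : G)⁻¹ := by
        rw [hx] at h3
        exact h3
      calc n * ((e s : G)⁻¹ * g) = (e s : G)⁻¹ * ((e s : G) * n * (e s : G)⁻¹) * g := by group
        _ = (e s : G)⁻¹ * (g * n * g⁻¹) * g := by rw [h4]
        _ = (e s : G)⁻¹ * g * n := by group
    rw [hC, Subgroup.mem_bot, inv_mul_eq_one] at h1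
    rw [← h1]
    exact (e s).2
  subst htop
  obtain ⟨χ, h1, h2, h3, h4⟩ := hex G (e.trans Subgroup.topEquiv) k hk M hM
  refine ⟨χ, h1, h2, h3, ?_⟩
  have h5 := Clifford.classInner_comp_mulEquiv (Subgroup.topEquiv : (⊤ : Subgroup G) ≃* G) (χ : G → ℂ) (1 : G → ℂ)
  have h6 : classInner (χ : G → ℂ) 1 = 0 := classInner_irr_ne χ.2 isIrr_one h4
  rw [h6] at h5
  rw [← h5]
  rfl

/-- Transport of a rank 3 action. -/
theorem R3.comp {S G : Type*} [Group S] [Group G] {X : Type*} [MulAction S X] {R : X → X → Prop} {k l : ℕ}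
    (h : R3 S X R k l) (e : S ≃* G) :
    (letI := MulAction.compHom X e.symm.toMonoidHom; R3 G X R k l) := by
  letI := MulAction.compHom X e.symm.toMonoidHom
  have hs : ∀ (s : S) (x : X), e s • x = s • x := fun s x => by
    show e.symm (e s) • x = s • x
    rw [MulEquiv.symm_apply_apply]
  refine ⟨⟨fun x y => ?_⟩, h.symm, h.irr, fun g x y hxy => h.inv (e.symm g) x y hxy, ?_, ?_, h.cardk, h.k0, h.l0,
    h.cardn⟩
  · have := h.trans
    obtain ⟨s, hs'⟩ := MulAction.exists_smul_eq S x y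
    exact ⟨e s, by rw [hs, hs']⟩
  · intro x y x' y' h1 h2
    obtain ⟨s, h3, h4⟩ := h.one x y x' y' h1 h2
    exact ⟨e s, by rw [hs, h3], by rw [hs, h4]⟩
  · intro x y x' y' h1 h2 h1' h2'
    obtain ⟨s, h3, h4⟩ := h.two x y x' y' h1 h2 h1' h2'
    exact ⟨e s, by rw [hs, h3], by rw [hs, h4]⟩

/-- **Rows with `Out = 1` from a rank 3 action.** -/
theorem evenB_of_R3 {S : Type u} [Group S] (hin : ∀ α : S ≃* S, ∃ s : S, ∀ x : S, α x = s * x * s⁻¹)
    {X : Type v} [Finite X] [MulAction S X] {R : X → X → Prop} {k l : ℕ} (h : R3 S X R k l) (hodd : Odd (k + l))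
    (hpar : ∀ a b c : ℕ, k * k = k + k * a + l * b → (c : ℤ) * c = ((a : ℤ) - b) ^ 2 + 4 * ((k : ℤ) - b) →
      Even a ∧ Even b) : EvenB S := by
  classical
  have := Fintype.ofFinite X
  refine evenB_of_inner hin fun G _ _ e κ hκ M hM => ?_
  letI := MulAction.compHom X e.symm.toMonoidHom
  have h' : R3 G X R k l := R3.comp h e
  exact exists_even h' hodd hpar hκ hM

end Cfsg.Agent.H305.EB
end

-- part: H332/EB/Zero
section
/-!
# TEAM EB: rank 3, the coefficients of one orbital even (helper332)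

`mem_of_zero` : `R3 G X R k l`, `k`, `λ`, `μ` even, and the number of conjugates of `g` mapping `y` to `x` is even if
`x ≠ y` are not in relation: all the constituents of the permutation character are in the principal 2-block.
-/

set_option autoImplicit false
set_option linter.unusedSectionVars false
set_option linter.style.haveILetI false

namespace Cfsg.Agent.H332.EB.Zero

open Cfsg Cfsg.Agent.Characters Cfsg.Agent.Characters.Core Cfsg.Agent.H665.NoPQ Cfsg.Agent.H690.Spor.RankThree
open Cfsg.Agent.H690.Spor.RankThree.R3 Cfsg.Agent.H610.EB Cfsg.Agent.H694 Cfsg.Agent.H694.EB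
open Cfsg.Agent.H610 Cfsg.Agent.H305.EB
open scoped ComplexConjugate

universe u v

variable {G : Type u} {X : Type v} [Group G] [Fintype G] [MulAction G X] {R : X → X → Prop} {k l : ℕ}
variable [Fintype X] [DecidableEq X] [DecidableRel R]

theorem mem_of_zero (h : R3 G X R k l) {a b : ℕ} (ha : Even a) (hb : Even b) (hk : Even k)
    (hab : ∀ x y, ∑ z, adj R x z * adj R z y = (k - b : ℂ) * dia x y + (a - b : ℂ) * adj R x y + b)
    (h0 : ∀ (g : G) (x y : X), x ≠ y → ¬ R x y → Even (cn g x y))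
    {M : Ideal AlgInt} (hM : IsPModular 2 M) (χ : IrrCharacter G)
    (hχ : classInner (permC G X) (χ : G → ℂ) ≠ 0) : χ ∈ principalBlock M G := by
  classical
  refine mem_principalBlock (X := X) hM χ ?_ ?_
  · intro h0
    apply hχ
    rw [classInner_def]
    have h1 : ∀ g : G, permC G X g * conj ((χ : G → ℂ) g) =
        (Nat.card {x : X // g • x = x} : ℂ) * (χ : G → ℂ) g⁻¹ := by
      intro g
      rw [isCharacter_apply_inv (isIrr_isCharacter χ.2)]
      rfl
    rw [Finset.sum_congr rfl fun g _ => h1 g, h0, mul_zero]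
  · intro g _
    refine ⟨2, ?_⟩
    have hX0 : Nat.card X = 1 + k + l := h.cardn
    have hne : Nonempty X := by
      rw [← Finite.card_pos_iff]
      omega
    obtain ⟨x0⟩ := hne
    have := h.trans
    have hcn : ∀ (s : G) (x y : X), cn g (s • x) (s • y) = cn g x y := by
      intro s x y
      refine Nat.card_congr ⟨fun t => ⟨s⁻¹ * t.1 * s, ?_, ?_⟩, fun t => ⟨s * t.1 * s⁻¹, ?_, ?_⟩, fun t => ?_, fun t => ?_⟩
      · obtain ⟨c, hc⟩ := isConj_iff.1 t.2.1
        exact isConj_iff.2 ⟨s⁻¹ * c, by rw [← hc]; group⟩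
      · rw [mul_smul, mul_smul, t.2.2, inv_smul_smul]
      · obtain ⟨c, hc⟩ := isConj_iff.1 t.2.1
        exact isConj_iff.2 ⟨s * c, by rw [← hc]; group⟩
      · rw [mul_smul, mul_smul, inv_smul_smul, t.2.2]
      · apply Subtype.ext
        show s * (s⁻¹ * t.1 * s) * s⁻¹ = t.1
        group
      · apply Subtype.ext
        show s⁻¹ * (s * t.1 * s⁻¹) * s = t.1
        group
    -- the coefficients
    obtain ⟨c0, c1, hc⟩ : ∃ c0 c1 : ZMod 2, ∀ x y : X, (cn g x y : ZMod 2) =
        c0 * (if x = y then 1 else 0) + c1 * (if R x y then 1 else 0) := by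
      obtain ⟨y1, hy1⟩ : ∃ y, R x0 y := by
        have h1 := h.cardk x0
        have h2 : Nonempty {y // R x0 y} := by
          rw [← Finite.card_pos_iff, h1]
          exact h.k0
        obtain ⟨⟨y, hy⟩⟩ := h2
        exact ⟨y, hy⟩
      refine ⟨(cn g x0 x0 : ZMod 2), (cn g x0 y1 : ZMod 2), fun x y => ?_⟩
      by_cases hxy : x = y
      · subst hxy
        obtain ⟨s, hs⟩ := MulAction.exists_smul_eq G x0 x
        rw [if_pos rfl, if_neg (h.irr x), ← hs, hcn]
        ring
      · by_cases hR : R x y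
        · obtain ⟨s, hs1, hs2⟩ := h.one x0 y1 x y hy1 hR
          rw [if_neg hxy, if_pos hR, ← hs1, ← hs2, hcn]
          ring
        · rw [if_neg hxy, if_neg hR, (ZMod.natCast_eq_zero_iff_even).2 (h0 g x y hxy hR)]
          ring
    have hk2 : (k : ZMod 2) = 0 := (ZMod.natCast_eq_zero_iff_even).2 hk
    -- the row sums
    have hrow : ((Subgroup.centralizer ({g} : Set G)).index : ZMod 2) = c0 := by
      have h1 : ∑ y : X, cn g y x0 = (Subgroup.centralizer ({g} : Set G)).index := by
        unfold cn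
        rw [Blocks.ClassScalar.index_centralizer, ← Nat.card_sigma]
        exact Nat.card_congr
          { toFun := fun t => ⟨t.2.1, t.2.2.1⟩
            invFun := fun t => ⟨t.1 • x0, t.1, t.2, rfl⟩
            left_inv := by
              rintro ⟨y, t, ht, rfl⟩
              rfl
            right_inv := fun t => rfl }
      rw [← h1]
      push_cast
      rw [Finset.sum_congr rfl fun y _ => hc y x0, Finset.sum_add_distrib, ← Finset.mul_sum, ← Finset.mul_sum]
      have h2 : ∑ y : X, (if y = x0 then (1 : ZMod 2) else 0) = 1 := by simp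
      have h3 : ∑ y : X, (if R y x0 then (1 : ZMod 2) else 0) = k := by
        rw [← sum_A2 h x0]
        refine Finset.sum_congr rfl fun y _ => ?_
        rw [A2_symm h]
        rfl
      rw [h2, h3, hk2]
      ring
    have hK : (Matrix.of fun x y : X => (cn g x y : ZMod 2)) -
        ((Subgroup.centralizer ({g} : Set G)).index : ZMod 2) • 1 = c1 • A2 R := by
      ext x y
      rw [hrow]
      simp only [Matrix.sub_apply, Matrix.smul_apply, Matrix.of_apply, Matrix.one_apply, hc, A2, smul_eq_mul]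
      ring
    have hAA := A2_sq ha hb hab
    rw [hk2, zero_smul] at hAA
    rw [hK, sq, Matrix.smul_mul, Matrix.mul_smul, hAA, smul_zero, smul_zero]

end Cfsg.Agent.H332.EB.Zero
end

-- part: H332/EB/Fi23
section
/-!
# TEAM EB: the row `Fi₂₃` (helper332)

The action on the 31671 transpositions, permutation character `1 + 782 + 30888`. For two commuting transpositions
`x ≠ y` the number of elements of a conjugacy class mapping `y` to `x` is even (conjugate with `y`); the graph of the
noncommuting transpositions has the parameters `(31671, 28160, 25000, 25344)`.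
-/

set_option autoImplicit false
set_option linter.unusedSectionVars false
set_option linter.style.haveILetI false

namespace Cfsg.Agent.H332.EB.FiTh

open Cfsg Cfsg.Agent.Characters Cfsg.Agent.Characters.Core Cfsg.Agent.H690.Spor.RankThree
open Cfsg.Agent.H690.Spor.RankThree.R3 Cfsg.Agent.H610.EB Cfsg.Agent.H694 Cfsg.Agent.H694.EB Cfsg.Agent.H684.EB
open Cfsg.Agent.H610 Cfsg.Agent.H305.EB Cfsg.Agent.Fischer.Abstract
open Cfsg.Agent.Fischer480.Defs (IsT6 IsT7 Loc Com)
open Cfsg.Spor (Fi23)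

universe u v

/-- The number of conjugates of `g` mapping `y` to `x`, for commuting transpositions. -/
theorem even_cn {G : Type u} {X : Type v} [Group G] [Fintype G] [MulAction G X] (t : X → G)
    (hinj : Function.Injective t) (hsm : ∀ (g : G) (x : X), t (g • x) = g * t x * g⁻¹) (hsq : ∀ x, t x * t x = 1)
    (g : G) {x y : X} (hne : x ≠ y) (hc : t x * t y = t y * t x) : Even (cn g x y) := by
  classical
  have : Fact (Nat.Prime 2) := ⟨Nat.prime_two⟩
  have hy : t y • y = y := hinj (by rw [hsm]; group)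
  have hx : t y • x = x := hinj (by rw [hsm, ← hc]; group)
  have hy' : (t y)⁻¹ • y = y := by rw [inv_smul_eq_iff, hy]
  let T := {h : G // IsConj g h ∧ h • y = x}
  let F : T → T := fun h => ⟨t y * h.1 * (t y)⁻¹, h.2.1.trans (isConj_iff.2 ⟨t y, rfl⟩), by
    rw [mul_smul, mul_smul, hy', h.2.2, hx]⟩
  have hF : Function.Involutive F := by
    intro h
    apply Subtype.ext
    show t y * (t y * h.1 * (t y)⁻¹) * (t y)⁻¹ = h.1
    have e1 : (t y)⁻¹ = t y := inv_eq_of_mul_eq_one_left (hsq y)
    calc t y * (t y * h.1 * (t y)⁻¹) * (t y)⁻¹ = (t y * t y) * h.1 * ((t y)⁻¹ * (t y)⁻¹) := by group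
      _ = h.1 := by rw [e1, hsq, one_mul, mul_one]
  let σ : Equiv.Perm T := hF.toPerm
  have hσ : σ ^ 2 ^ 1 = 1 := by
    ext h
    rw [pow_one, pow_two, Equiv.Perm.mul_apply]
    exact congrArg _ (hF h)
  rw [even_iff_two_dvd]
  by_contra hcon
  have hcard : cn g x y = Fintype.card T := by
    rw [cn, Nat.card_eq_fintype_card]
  rw [hcard] at hcon
  obtain ⟨h, hh⟩ := Equiv.Perm.exists_fixed_point_of_prime hcon hσ
  have h1 : t y * h.1 * (t y)⁻¹ = h.1 := congrArg Subtype.val hh
  have h2 : t y * h.1 = h.1 * t y := by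
    calc t y * h.1 = t y * h.1 * (t y)⁻¹ * t y := by group
      _ = h.1 * t y := by rw [h1]
  have h3 : h.1 • y = y := hinj (by
    rw [hsm, ← h2]
    group)
  exact hne (h.2.2.symm.trans h3)

section rank3

variable {G : Type u} {X : Type v} [Group G] [MulAction G X]

theorem com_trans (R : Rank3 G X) {x y x' y' : X} (h1 : x ≠ y) (h2 : R.Com x y) (h3 : x' ≠ y') (h4 : R.Com x' y') :
    ∃ g : G, g • x = x' ∧ g • y = y' := by
  have key : ∀ x y : X, x ≠ y → R.Com x y → ∃ g : G, g • R.x0 = x ∧ g • R.c = y := by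
    intro x y hne hc
    obtain ⟨g, hg⟩ := R.trans x
    have h5 : R.Com R.x0 (g⁻¹ • y) := by
      rw [← R.com_smul g, smul_inv_smul, hg]
      exact hc
    rcases R.com_x0_iff.1 h5 with h6 | ⟨h, h6, h7⟩
    · exact absurd (by rw [← hg, ← h6, smul_inv_smul]) hne
    · exact ⟨g * h, by rw [mul_smul, h6, hg], by rw [mul_smul, h7, smul_inv_smul]⟩
  obtain ⟨g, hg1, hg2⟩ := key x y h1 h2
  obtain ⟨g', hg1', hg2'⟩ := key x' y' h3 h4
  exact ⟨g' * g⁻¹, by rw [mul_smul, ← hg1, inv_smul_smul, hg1'], by rw [mul_smul, ← hg2, inv_smul_smul, hg2']⟩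

theorem ncom_trans (R : Rank3 G X) {x y x' y' : X} (h2 : ¬ R.Com x y) (h4 : ¬ R.Com x' y') :
    ∃ g : G, g • x = x' ∧ g • y = y' := by
  have key : ∀ x y : X, ¬ R.Com x y → ∃ g : G, g • R.x0 = x ∧ g • R.b = y := by
    intro x y hc
    obtain ⟨g, hg⟩ := R.trans x
    have h5 : ¬ R.Com R.x0 (g⁻¹ • y) := by
      rw [← R.com_smul g, smul_inv_smul, hg]
      exact hc
    obtain ⟨h, h6, h7⟩ := R.not_com_x0_iff.1 h5
    exact ⟨g * h, by rw [mul_smul, h6, hg], by rw [mul_smul, h7, smul_inv_smul]⟩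
  obtain ⟨g, hg1, hg2⟩ := key x y h2
  obtain ⟨g', hg1', hg2'⟩ := key x' y' h4
  exact ⟨g' * g⁻¹, by rw [mul_smul, ← hg1, inv_smul_smul, hg1'], by rw [mul_smul, ← hg2, inv_smul_smul, hg2']⟩

/-- The graph of the noncommuting pairs. -/
theorem r3_of (R : Rank3 G X) {k l : ℕ} (hk : ∀ x, Nat.card {y // ¬ R.Com x y} = k) (hk0 : 0 < k) (hl0 : 0 < l)
    (hn : Nat.card X = 1 + k + l) : R3 G X (fun x y => ¬ R.Com x y) k l := by
  refine ⟨⟨fun x y => ?_⟩, fun x y h h' => h (R.com_symm h'), fun x h => h (R.com_self x), fun g x y h h' => ?_,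
    fun x y x' y' h1 h2 => ncom_trans R h1 h2, fun x y x' y' h1 h2 h3 h4 => ?_, hk, hk0, hl0, hn⟩
  · obtain ⟨g, hg⟩ := R.trans x
    obtain ⟨g', hg'⟩ := R.trans y
    exact ⟨g' * g⁻¹, by rw [mul_smul, ← hg, inv_smul_smul, hg']⟩
  · rw [R.com_smul] at h'
    exact h h'
  · rw [not_not] at h2 h4
    exact com_trans R h1 h2 h3 h4

end rank3

/-! ### the numbers -/

theorem isT7 : IsT7 (R08.FiTwentyThree.D : Set Fi23) := H816.Quasi.isT7_of H830.Con22.isT6

section numbers

variable {X : Type v} [MulAction Fi23 X] (R : Rank3 Fi23 X) (hR : Set.range R.t = R08.FiTwentyThree.D)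
include hR

theorem card_X : Nat.card X = 31671 := by
  rw [← R.card_range, hR, Nat.card_coe_set_eq]
  exact isT7.1

theorem finite_X : Finite X := Nat.finite_of_card_ne_zero (by rw [card_X R hR]; norm_num)

theorem ncard_com (x : X) : {y : X | R.Com x y}.ncard = 3511 := by
  have h1 := (isT7.2.1 (R.t x) (by rw [← hR]; exact ⟨x, rfl⟩)).1
  have h2 : R.t '' {y : X | R.Com x y} = insert (R.t x) (Loc R08.FiTwentyThree.D (R.t x)) := by
    ext z
    constructor
    · rintro ⟨y, hy, rfl⟩
      by_cases hxy : y = x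
      · left
        rw [hxy]
      · right
        exact ⟨by rw [← hR]; exact ⟨y, rfl⟩, fun h => hxy (R.t_injective h), hy⟩
    · rintro (rfl | ⟨hz, -, hz'⟩)
      · exact ⟨x, R.com_self x, rfl⟩
      · rw [← hR] at hz
        obtain ⟨y, rfl⟩ := hz
        exact ⟨y, hz', rfl⟩
  have hfin : (Loc (R08.FiTwentyThree.D : Set Fi23) (R.t x)).Finite := Set.finite_of_ncard_pos (by rw [h1]; norm_num)
  rw [← Set.ncard_image_of_injective _ R.t_injective, h2, Set.ncard_insert_of_notMem (fun h => h.2.1 rfl) hfin, h1]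

theorem ncard_both {x y : X} (h : ¬ R.Com x y) : ({z : X | R.Com x z} ∩ {z : X | R.Com y z}).ncard = 351 := by
  have h1 := isT7.2.2 (R.t x) (by rw [← hR]; exact ⟨x, rfl⟩) (R.t y) (by rw [← hR]; exact ⟨y, rfl⟩) h
  rw [← h1, ← Set.ncard_image_of_injective _ R.t_injective]
  congr 1
  ext z
  constructor
  · rintro ⟨w, ⟨hw1, hw2⟩, rfl⟩
    exact ⟨by rw [← hR]; exact ⟨w, rfl⟩, hw1, hw2⟩
  · rintro ⟨hz, hz1, hz2⟩
    rw [← hR] at hz
    obtain ⟨w, rfl⟩ := hz
    exact ⟨w, ⟨hz1, hz2⟩, rfl⟩

theorem card_ncom (x : X) : Nat.card {y // ¬ R.Com x y} = 28160 := by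
  have := finite_X R hR
  have h1 := Set.ncard_add_ncard_compl {y : X | R.Com x y}
  rw [ncard_com R hR, card_X R hR] at h1
  have h2 : Nat.card {y // ¬ R.Com x y} = ({y : X | R.Com x y}ᶜ).ncard := by
    rw [← Nat.card_coe_set_eq]
    rfl
  rw [h2]
  omega

theorem card_a {x y : X} (h : ¬ R.Com x y) : Nat.card {z // ¬ R.Com x z ∧ ¬ R.Com z y} = 25000 := by
  have := finite_X R hR
  have h1 := Set.ncard_add_ncard_compl ({z : X | R.Com x z} ∪ {z : X | R.Com y z})
  have h2 := Set.ncard_union_add_ncard_inter {z : X | R.Com x z} {z : X | R.Com y z}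
  rw [ncard_both R hR h, ncard_com R hR, ncard_com R hR] at h2
  rw [card_X R hR] at h1
  have h3 : Nat.card {z // ¬ R.Com x z ∧ ¬ R.Com z y} = (({z : X | R.Com x z} ∪ {z : X | R.Com y z})ᶜ).ncard := by
    rw [← Nat.card_coe_set_eq]
    refine Nat.card_congr (Equiv.subtypeEquivRight fun z => ?_)
    constructor
    · rintro ⟨h4, h5⟩ (h6 | h6)
      · exact h4 h6
      · exact h5 (R.com_symm h6)
    · intro h4
      exact ⟨fun h5 => h4 (Or.inl h5), fun h5 => h4 (Or.inr (R.com_symm h5))⟩
  rw [h3]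
  omega

theorem r3 : R3 Fi23 X (fun x y => ¬ R.Com x y) 28160 3510 :=
  r3_of R (card_ncom R hR) (by norm_num) (by norm_num) (card_X R hR)

end numbers

/-- Every automorphism of `Fi₂₃` is inner. -/
theorem inner {S : Type*} [Group S] (h : Spor.IsoFi23 S) (α : S ≃* S) : ∃ s : S, ∀ x : S, α x = s * x * s⁻¹ := by
  obtain ⟨f⟩ := h
  obtain ⟨g, hg⟩ := KFacts.FiTTh.Has.inn ((f.symm.trans α).trans f)
  refine ⟨f.symm g, fun x => ?_⟩
  apply f.injective
  have h1 := DFunLike.congr_fun hg (f x)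
  have h2 : ((f.symm.trans α).trans f) (f x) = f (α x) := by
    show f (α (f.symm (f x))) = _
    rw [MulEquiv.symm_apply_apply]
  rw [← h2, h1, map_mul, map_mul, map_inv, MulEquiv.apply_symm_apply]
  rfl

/-- **Row `Fi₂₃`.** -/
theorem evenB_fi23 {S : Type u} [Group S] (h : Spor.IsoFi23 S) : EvenB S := by
  classical
  refine evenB_of_inner (inner h) fun G _ _ e κ hκ M hM => ?_
  obtain ⟨f'⟩ := h
  obtain ⟨f, -⟩ : ∃ f : Fi23 ≃* G, f = f'.symm.trans e := ⟨_, rfl⟩
  obtain ⟨R, -, -, hR⟩ := R08.FiTwentyThree.exists_rank3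
  have h0 := r3 R hR
  have := finite_X R hR
  have := Fintype.ofFinite (Fi23 ⧸ Fischer.Fi23Class.K)
  letI := MulAction.compHom (Fi23 ⧸ Fischer.Fi23Class.K) f.symm.toMonoidHom
  have h1 : R3 G (Fi23 ⧸ Fischer.Fi23Class.K) (fun x y => ¬ R.Com x y) 28160 3510 := R3.comp h0 f
  obtain ⟨a, b, hab⟩ := h1.exists_params
  have hp := h1.params_eq hab
  have ha : a = 25000 := by
    have h2 := hab R.x0 R.b
    rw [sum_mul] at h2
    unfold dia adj at h2
    have h3 : R.x0 ≠ R.b := fun h => R.b_ne_x0 h.symm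
    have h4 : com (fun x y => ¬ R.Com x y) R.x0 R.b = 25000 := card_a R hR R.not_com_x0_b
    rw [if_neg h3, if_pos R.not_com_x0_b, h4] at h2
    have h5 : ((25000 : ℕ) : ℂ) = (a : ℂ) := by
      rw [h2]
      ring
    exact_mod_cast h5.symm
  subst ha
  have hb : b = 25344 := by omega
  subst hb
  obtain ⟨χ₁, χ₂, f1, f2, D, hf1, hf2, hval, hsum, hprod, hD, -⟩ := frame_ab h1 hab
  have hD' : D = 129600 := by
    have : (D : ℤ) = 129600 := by rw [hD]; norm_num
    exact_mod_cast this
  subst hD'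
  have hprod' : f1 * f2 = 24154416 := by
    have h2 : f1 * f2 * 129600 = 24154416 * 129600 := by rw [hprod]
    exact Nat.eq_of_mul_eq_mul_right (by norm_num) h2
  have hne : f1 ≠ f2 := by
    rintro rfl
    have h2 : f1 = 15835 := by omega
    subst h2
    norm_num at hprod'
  have heven : Even f1 := by
    rcases Nat.even_or_odd f1 with h2 | h2
    · exact h2
    · exfalso
      have h3 : Odd f2 := by
        rcases Nat.even_or_odd f2 with h3 | h3
        · have h4 := h2.add_even h3
          rw [hsum] at h4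
          exact absurd h4 (by decide)
        · exact h3
      have h4 := h2.mul h3
      rw [hprod'] at h4
      exact absurd h4 (by decide)
  have hd1 : charDegree (χ₁ : G → ℂ) = f1 := Blocks.Basic.charDegree_of_eq hf1
  have hd2 : charDegree (χ₂ : G → ℂ) = f2 := Blocks.Basic.charDegree_of_eq hf2
  have hπ : permC G (Fi23 ⧸ Fischer.Fi23Class.K) = 1 + (χ₁ : G → ℂ) + (χ₂ : G → ℂ) := by
    funext x
    exact hval x
  have hone := Two.inner_eq_one hπ (by rwa [hd1]) (by rwa [hd1, hd2])
  refine ⟨χ₁, ?_, by rwa [hd1], ?_, ?_⟩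
  · refine Zero.mem_of_zero h1 (by decide) (by decide) (by decide) hab ?_ hM χ₁ (by rw [hone]; exact one_ne_zero)
    intro g x y hxy hc
    rw [not_not] at hc
    refine even_cn (fun x => f (R.t x)) (f.injective.comp R.t_injective) (fun g x => ?_) (fun x => ?_) g hxy ?_
    · show f (R.t (f.symm g • x)) = _
      rw [R.map_smul, map_mul, map_mul, map_inv, f.apply_symm_apply]
    · show f (R.t x) * f (R.t x) = 1
      rw [← map_mul, R.sq', map_one]
    · show f (R.t x) * f (R.t y) = f (R.t y) * f (R.t x)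
      rw [← map_mul, ← map_mul]
      exact congrArg f hc
  · intro g
    have h5 : classInner (permC G (Fi23 ⧸ Fischer.Fi23Class.K)) (Twist.pw hκ.coprime χ₁ : G → ℂ) ≠ 0 := by
      rw [classInner_pw hκ (fun s => by
        show (Nat.card (MulAction.fixedBy _ (s ^ κ)) : ℂ) = _
        rw [fixedBy_pow hκ]
        rfl), hone]
      exact one_ne_zero
    have h6 := Two.eq_of_degree hπ (by rwa [hd1]) (by rwa [hd1, hd2]) _ (charDegree_pw hκ χ₁) h5
    rw [← Twist.pw_apply hκ.coprime χ₁ g, h6]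
  · intro h2
    have h3 : charDegree (χ₁ : G → ℂ) = 1 := by
      rw [h2]
      exact Two.charDegree_one'
    rw [hd1] at h3
    rw [h3] at heven
    exact absurd heven (by decide)

end Cfsg.Agent.H332.EB.FiTh
end

private theorem dce_0969caedd394 : _root_.True := by
  try have : _root_.True := by simp only [_root_.Cfsg.Agent.H694.EB.cn.eq_1]
  exact _root_.True.intro
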